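import Groth.Agent.AdicRing.K25.Base

/-!
The uniform Artin–Rees property for finite modules over finite type algebras over topologically
finite type algebras; completeness of finite modules over topologically finite type algebras.
-/

set_option autoImplicit false

open scoped TensorProduct Pointwise

namespace K25.ArtinRees

open K25.Special K25.Complete K25.Base AdicRing

universe u v

section Sat

variable {R : Type*} [CommRing R] (I : Ideal R) {C : Type*} [CommRing C] [Algebra R C]
  {M : Type*} [AddCommGroup M] [Module C M]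

theorem pow_smul_mem_of_le {N : Submodule C M} {n m : ℕ} (h : n ≤ m) {x : M}
    (hx : ∀ a ∈ I ^ n, algebraMap R C a • x ∈ N) : ∀ a ∈ I ^ m, algebraMap R C a • x ∈ N :=
  fun a ha => hx a (Ideal.pow_le_pow_right h ha)

/-- The saturation of a submodule with respect to `I`. -/
def sat (N : Submodule C M) : Submodule C M where
  carrier := {x | ∃ n : ℕ, ∀ a ∈ I ^ n, algebraMap R C a • x ∈ N}
  add_mem' := by
    rintro x y ⟨n, hn⟩ ⟨m, hm⟩
    refine ⟨max n m, fun a ha => ?_⟩
    rw [smul_add]
    exact add_mem (pow_smul_mem_of_le I (le_max_left n m) hn a ha)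
      (pow_smul_mem_of_le I (le_max_right n m) hm a ha)
  zero_mem' := ⟨0, fun a _ => by rw [smul_zero]; exact zero_mem _⟩
  smul_mem' := by
    rintro c x ⟨n, hn⟩
    refine ⟨n, fun a ha => ?_⟩
    rw [smul_comm]
    exact N.smul_mem _ (hn a ha)

theorem mem_sat {N : Submodule C M} {x : M} :
    x ∈ sat I N ↔ ∃ n : ℕ, ∀ a ∈ I ^ n, algebraMap R C a • x ∈ N := Iff.rfl

theorem le_sat (N : Submodule C M) : N ≤ sat I N := fun x hx =>
  ⟨0, fun _ _ => N.smul_mem _ hx⟩

theorem sat_saturated (hI : I.FG) (N : Submodule C M) (x : M)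
    (hx : ∀ a ∈ I, algebraMap R C a • x ∈ sat I N) : x ∈ sat I N := by
  obtain ⟨s, hs⟩ := hI
  have h1 : ∀ a ∈ s, ∃ n : ℕ, ∀ b ∈ I ^ n, algebraMap R C b • algebraMap R C a • x ∈ N :=
    fun a ha => hx a (hs ▸ Ideal.subset_span ha)
  choose! n hn using h1
  refine ⟨s.sup n + 1, fun a ha => ?_⟩
  rw [pow_succ] at ha
  refine Submodule.mul_induction_on ha (fun b hb c hc => ?_) (fun y z hy hz => ?_)
  · rw [← hs] at hc
    refine Submodule.span_induction (p := fun c _ => algebraMap R C (b * c) • x ∈ N) ?_ ?_ ?_ ?_ hc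
    · intro c hc
      rw [map_mul, mul_smul]
      exact hn c hc b (Ideal.pow_le_pow_right (Finset.le_sup (f := n) hc) hb)
    · rw [mul_zero, map_zero, zero_smul]
      exact zero_mem _
    · intro y z _ _ hy hz
      rw [mul_add, map_add, add_smul]
      exact add_mem hy hz
    · intro r y _ hy
      rw [smul_eq_mul, mul_left_comm, map_mul, mul_smul]
      exact N.smul_mem _ hy
  · rw [map_add, add_smul]
    exact add_mem hy hz

/-- If the saturation is finitely generated it is killed into `N` by a fixed power of `I`. -/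
theorem exists_pow_smul_sat_le {N : Submodule C M} (h : (sat I N).FG) :
    ∃ n : ℕ, ∀ a ∈ I ^ n, ∀ x ∈ sat I N, algebraMap R C a • x ∈ N := by
  obtain ⟨s, hs⟩ := h
  have h1 : ∀ x ∈ s, ∃ n : ℕ, ∀ a ∈ I ^ n, algebraMap R C a • x ∈ N := fun x hx =>
    (mem_sat I).1 (hs ▸ Submodule.subset_span hx)
  choose! n hn using h1
  refine ⟨s.sup n, fun a ha x hx => ?_⟩
  rw [← hs] at hx
  refine Submodule.span_induction (p := fun x _ => algebraMap R C a • x ∈ N) ?_ ?_ ?_ ?_ hx
  · intro y hy
    exact hn y hy a (Ideal.pow_le_pow_right (Finset.le_sup (f := n) hy) ha)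
  · rw [smul_zero]
    exact zero_mem _
  · intro y z _ _ hy hz
    rw [smul_add]
    exact add_mem hy hz
  · intro r y _ hy
    rw [smul_comm]
    exact N.smul_mem _ hy

end Sat

section AR

variable {R : Type u} [CommRing R] {I : Ideal R}

/-- The Artin–Rees property of submodules of a module. -/
def ArtinRees (I : Ideal R) (C : Type u) [CommRing C] [Algebra R C] (M : Type u) [AddCommGroup M]
    [Module C M] : Prop :=
  ∀ N : Submodule C M, ∃ n₀ : ℕ, ∀ m : ℕ,
    (I.map (algebraMap R C) ^ (m + n₀) • (⊤ : Submodule C M)) ⊓ N ≤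
      I.map (algebraMap R C) ^ m • N

theorem artinRees_of_isNoetherianRing (C : Type u) [CommRing C] [Algebra R C]
    [IsNoetherianRing C] (M : Type u) [AddCommGroup M] [Module C M] [Module.Finite C M] :
    ArtinRees I C M := by
  intro N
  obtain ⟨k, hk⟩ := Ideal.exists_pow_inf_eq_pow_smul (I.map (algebraMap R C)) N
  refine ⟨k, fun m => ?_⟩
  rw [hk (m + k) (Nat.le_add_left k m), Nat.add_sub_cancel]
  exact smul_mono_right _ inf_le_right

theorem artinRees_of_principal {t : R} (hI : I = Ideal.span {t}) (C : Type u) [CommRing C]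
    [Algebra R C] (M : Type u) [AddCommGroup M] [Module C M] [Module.Finite C M]
    (hC : SatFG R I C) : ArtinRees I C M := by
  intro N
  have hIfg : I.FG := ⟨{t}, by rw [hI]; simp⟩
  obtain ⟨n, hn⟩ := exists_pow_smul_sat_le I (hC M (sat I N) (sat_saturated I hIfg N))
  have hpow : ∀ k, I.map (algebraMap R C) ^ k = Ideal.span {algebraMap R C t ^ k} := by
    intro k
    rw [hI, Ideal.map_span, Set.image_singleton, Ideal.span_singleton_pow]
  refine ⟨n, fun m x hx => ?_⟩
  rw [hpow, Submodule.ideal_span_singleton_smul] at hx ⊢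
  obtain ⟨hx1, hx2⟩ := hx
  obtain ⟨y, -, rfl⟩ := (Submodule.mem_smul_pointwise_iff_exists _ _ _).1 hx1
  have hy : y ∈ sat I N := by
    refine ⟨m + n, fun a ha => ?_⟩
    rw [hI, Ideal.span_singleton_pow, Ideal.mem_span_singleton] at ha
    obtain ⟨b, rfl⟩ := ha
    rw [mul_comm, map_mul, mul_smul, map_pow]
    exact N.smul_mem _ hx2
  rw [pow_add, mul_smul]
  refine Submodule.smul_mem_pointwise_smul _ _ _ ?_
  rw [← map_pow]
  refine hn (t ^ n) ?_ y hy
  rw [hI]
  exact Ideal.pow_mem_pow (Ideal.mem_span_singleton_self t) n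

theorem artinRees_of_isBase (hR : IsBase R I)
    {A : Type u} [CommRing A] [Algebra R A] (hA : TopFiniteType R I A)
    (C : Type u) [CommRing C] [Algebra R C] [Algebra A C] [IsScalarTower R A C]
    [Algebra.FiniteType A C] (M : Type u) [AddCommGroup M] [Module C M] [Module.Finite C M] :
    ArtinRees I C M := by
  by_cases hN : IsNoetherianRing R
  · have := isNoetherianRing_of_topFiniteType hA
    have := Algebra.FiniteType.isNoetherianRing A C
    exact artinRees_of_isNoetherianRing C M
  · obtain ⟨t, -, -, hIt⟩ := vData hR hN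
    exact artinRees_of_principal hIt C M (satFG_of_isBase hR hA C)

/-- Separatedness of finite modules. -/
theorem isHausdorff_of_artinRees (hI : I.FG) (C : Type u) [CommRing C] [Algebra R C]
    (hC : SatFG R I C) (M : Type u) [AddCommGroup M] [Module C M] [Module.Finite C M]
    (hM : ArtinRees I C M) (hrad : I.map (algebraMap R C) ≤ Ideal.jacobson ⊥) :
    IsHausdorff (I.map (algebraMap R C)) M := by
  set J := I.map (algebraMap R C) with hJ
  let T : Submodule C M := ⨅ n : ℕ, J ^ n • (⊤ : Submodule C M)
  have hT : ∀ k, T ≤ J ^ k • T := by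
    intro k
    obtain ⟨n₀, hn₀⟩ := hM T
    refine le_trans (le_inf ?_ le_rfl) (hn₀ k)
    exact iInf_le _ _
  have hfg := hC M (sat I T) (sat_saturated I hI T)
  obtain ⟨n, hn⟩ := exists_pow_smul_sat_le I hfg
  have hle : J ^ n • sat I T ≤ T := by
    rw [hJ, ← Ideal.map_pow, Submodule.smul_le]
    intro c hc x hx
    refine Submodule.span_induction (p := fun c _ => c • x ∈ T) ?_ ?_ ?_ ?_ hc
    · rintro _ ⟨a, ha, rfl⟩
      exact hn a ha x hx
    · rw [zero_smul]
      exact zero_mem _
    · intro y z _ _ hy hz
      rw [add_smul]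
      exact add_mem hy hz
    · intro r y _ hy
      rw [smul_eq_mul, mul_smul]
      exact T.smul_mem _ hy
  have hJn : (J ^ n).FG := Ideal.FG.pow (Ideal.FG.map hI _)
  have hZfg : (J ^ n • sat I T).FG := Submodule.FG.smul hJn hfg
  have hZ : J ^ n • sat I T ≤ J • (J ^ n • sat I T) := by
    refine hle.trans ((hT (n + 1)).trans ?_)
    rw [pow_succ', mul_smul]
    exact smul_mono_right _ (smul_mono_right _ (le_sat I T))
  have hZ0 : J ^ n • sat I T = ⊥ :=
    Submodule.eq_bot_of_le_smul_of_le_jacobson_bot J _ hZfg hZ hrad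
  have hT0 : T = ⊥ := by
    rw [eq_bot_iff, ← hZ0]
    exact (hT n).trans (smul_mono_right _ (le_sat I T))
  constructor
  intro x hx
  have : x ∈ T := by
    rw [Submodule.mem_iInf]
    intro n
    have := hx n
    rwa [SModEq.zero] at this
  rw [hT0] at this
  exact this

end AR

section Finite

variable {R : Type u} [CommRing R] {I : Ideal R}

theorem rPow_topFiniteType (n : ℕ) : TopFiniteType R I (RPow R I n) :=
  ⟨n, AlgHom.id R _, Function.surjective_id⟩

/-- Finite modules over restricted power series rings are complete. -/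
theorem isAdicComplete_of_finite_rPow (hR : IsBase R I) (n : ℕ) (M : Type u) [AddCommGroup M]
    [Module (RPow R I n) M] [Module.Finite (RPow R I n) M] :
    IsAdicComplete (I.map (algebraMap R (RPow R I n))) M := by
  have hI := fg_of_isBase hR
  have := isAdicComplete_rPow hI n
  have h1 : IsPrecomplete (I.map (algebraMap R (RPow R I n))) M :=
    Groth.Agent.FormalA.AdicFin.isPrecomplete_of_finite _
  have h2 : IsHausdorff (I.map (algebraMap R (RPow R I n))) M :=
    isHausdorff_of_artinRees hI (RPow R I n)
      (satFG_of_isBase hR (rPow_topFiniteType n) (RPow R I n)) M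
      (artinRees_of_isBase hR (rPow_topFiniteType n) (RPow R I n) M)
      (IsAdicComplete.le_jacobson_bot _)
  exact ⟨⟩

/-- Finite modules over topologically finite type algebras are complete. -/
theorem isAdicComplete_of_finite (hR : IsBase R I)
    {A : Type u} [CommRing A] [Algebra R A] (hA : TopFiniteType R I A)
    (M : Type u) [AddCommGroup M] [Module A M] [Module.Finite A M] :
    IsAdicComplete (I.map (algebraMap R A)) M := by
  obtain ⟨n, φ, hφ⟩ := hA
  let _ : Algebra (RPow R I n) A := φ.toRingHom.toAlgebra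
  let _ : Module (RPow R I n) M := Module.compHom M φ.toRingHom
  have _ : IsScalarTower (RPow R I n) A M := IsScalarTower.of_algebraMap_smul fun _ _ => rfl
  have _ : Module.Finite (RPow R I n) A :=
    Module.Finite.of_surjective (Algebra.linearMap (RPow R I n) A) hφ
  have _ : Module.Finite (RPow R I n) M := Module.Finite.trans A M
  have h1 := isAdicComplete_of_finite_rPow hR n M
  rw [← IsAdicComplete.map_algebraMap_iff (S := A), Ideal.map_map] at h1
  have h2 : (algebraMap (RPow R I n) A).comp (algebraMap R (RPow R I n)) = algebraMap R A :=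
    φ.comp_algebraMap
  rwa [h2] at h1

/-- The same, with respect to the ideal of the base ring. -/
theorem isAdicComplete_of_finite' (hR : IsBase R I)
    {A : Type u} [CommRing A] [Algebra R A] (hA : TopFiniteType R I A)
    (M : Type u) [AddCommGroup M] [Module A M] [Module.Finite A M] [Module R M]
    [IsScalarTower R A M] :
    IsAdicComplete I M := by
  have := isAdicComplete_of_finite hR hA M
  rwa [IsAdicComplete.map_algebraMap_iff] at this

end Finite

end K25.ArtinRees
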