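import Groth.Agent.AdicRing.K25.Special
import Groth.Agent.FormalA.AdicFin
import Groth.Agent.S0437
import Mathlib.RingTheory.AdicCompletion.Functoriality

/-!
Saturated submodules over complete algebras (class (V)) and over polynomial rings over these are
finitely generated.
-/

set_option autoImplicit false

open scoped TensorProduct Pointwise

namespace K25.Complete

open K25.Special

universe u

section General

variable {D : Type*} [CommRing D] (J : Ideal D)

/-- Separation can be tested by linear maps. -/
theorem isHausdorff_of_separating {E : Type*} [AddCommGroup E] [Module D E]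
    (h : ∀ x : E, x ≠ 0 → ∃ f : E →ₗ[D] D, f x ≠ 0) [IsHausdorff J D] : IsHausdorff J E := by
  constructor
  intro x hx
  by_contra hne
  obtain ⟨f, hf⟩ := h x hne
  apply hf
  refine IsHausdorff.haus (I := J) inferInstance (f x) fun n => ?_
  have := hx n
  rw [SModEq.zero] at this ⊢
  exact Submodule.smul_top_le_comap_smul_top (J ^ n) f this

theorem isHausdorff_of_injective {E E' : Type*} [AddCommGroup E] [Module D E] [AddCommGroup E']
    [Module D E'] (f : E →ₗ[D] E') (hf : Function.Injective f) [IsHausdorff J E'] :
    IsHausdorff J E := by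
  constructor
  intro x hx
  apply hf
  rw [map_zero]
  refine IsHausdorff.haus (I := J) inferInstance (f x) fun n => ?_
  have := hx n
  rw [SModEq.zero] at this ⊢
  exact Submodule.smul_top_le_comap_smul_top (J ^ n) f this

instance isHausdorff_submodule {E : Type*} [AddCommGroup E] [Module D E] [IsHausdorff J E]
    (N : Submodule D E) : IsHausdorff J N :=
  isHausdorff_of_injective J N.subtype Subtype.val_injective

instance isHausdorff_pi {ι : Type*} [IsHausdorff J D] : IsHausdorff J (ι → D) := by
  apply isHausdorff_of_separating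
  intro x hx
  obtain ⟨i, hi⟩ := Function.ne_iff.1 hx
  exact ⟨LinearMap.proj i, hi⟩

theorem isHausdorff_pi_mvPolynomial {ι σ : Type*} [IsHausdorff J D] :
    IsHausdorff J (ι → MvPolynomial σ D) := by
  apply isHausdorff_of_separating
  intro x hx
  obtain ⟨i, hi⟩ := Function.ne_iff.1 hx
  obtain ⟨m, hm⟩ : ∃ m, (x i).coeff m ≠ 0 := by
    by_contra hcon
    push Not at hcon
    exact hi (MvPolynomial.ext _ _ (by simpa using hcon))
  exact ⟨(MvPolynomial.lcoeff D m) ∘ₗ (LinearMap.proj i), hm⟩

/-- Complete Nakayama. -/
theorem eq_of_le_sup [IsPrecomplete J D] {E : Type*} [AddCommGroup E] [Module D E]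
    [IsHausdorff J E] {N' N : Submodule D E} (h1 : N'.FG) (h2 : N' ≤ N) (h3 : N ≤ N' ⊔ J • N) :
    N' = N := by
  refine le_antisymm h2 ?_
  have : Module.Finite D N' := Module.Finite.iff_fg.2 h1
  have := Groth.Agent.FormalA.AdicFin.isPrecomplete_of_finite J (M := N')
  have hs : Function.Surjective (Submodule.inclusion h2) := by
    apply surjective_of_mkQ_comp_surjective (I := J)
    intro y
    obtain ⟨y, rfl⟩ := Submodule.mkQ_surjective _ y
    obtain ⟨a, ha, b, hb, hab⟩ := Submodule.mem_sup.1 (h3 y.2)
    refine ⟨⟨a, ha⟩, ?_⟩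
    rw [LinearMap.comp_apply, Submodule.mkQ_apply, Submodule.mkQ_apply, Submodule.Quotient.eq]
    have hb' : b ∈ Submodule.map N.subtype (J • ⊤) := by
      rw [Submodule.map_smul'', Submodule.map_subtype_top]
      exact hb
    obtain ⟨b', hb', rfl⟩ := hb'
    have h4 : Submodule.inclusion h2 ⟨a, ha⟩ - y = - b' := by
      ext1
      have : (y : E) = a + N.subtype b' := hab.symm
      change a - (y : E) = - (b' : E)
      rw [this]
      simp
    rw [h4]
    exact neg_mem hb'
  intro y hy
  obtain ⟨x, hx⟩ := hs ⟨y, hy⟩
  have : (x : E) = y := congrArg Subtype.val hx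
  exact this ▸ x.2

end General

section VComplete

variable {R : Type u} [CommRing R] {t : R}

/-- Over a complete algebra with special fibre of finite type, saturated submodules of separated
finite modules are finitely generated. -/
theorem fg_of_saturated (h : VData R t) (ht : ¬ IsUnit t) (I : Ideal R)
    (hI : I = Ideal.span {t})
    {D : Type u} [CommRing D] [Algebra R D]
    (hD : Algebra.FiniteType R (D ⧸ I.map (algebraMap R D)))
    [IsPrecomplete (I.map (algebraMap R D)) D]
    {E : Type u} [AddCommGroup E] [Module D E] [Module.Finite D E]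
    [IsHausdorff (I.map (algebraMap R D)) E] (N : Submodule D E)
    (hsat : ∀ x, algebraMap R D t • x ∈ N → x ∈ N) : N.FG := by
  obtain ⟨N', h1, h2, h3⟩ := h.exists_fg_le_sup ht I hI hD N hsat
  rw [← eq_of_le_sup (I.map (algebraMap R D)) h1 h2 h3]
  exact h1

end VComplete

section Poly

open Groth.Agent.S0437

variable {D : Type u} [CommRing D] {σ : Type} {r : ℕ}

/-- The Rees module of a submodule of a free module over a polynomial ring. -/
def reesMod (N : Submodule (MvPolynomial σ D) (Fin r → MvPolynomial σ D)) :
    Submodule (rees σ D) (Fin r → rees σ D) where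
  carrier := {w | ∀ d, (fun j => (w j).1.coeff d) ∈ N}
  add_mem' := by
    intro v w hv hw d
    have : (fun j => ((v + w) j).1.coeff d) =
        (fun j => (v j).1.coeff d) + fun j => (w j).1.coeff d := by
      ext1 j
      simp
    simp only [Set.mem_ofPred_eq] at hv hw ⊢
    rw [this]
    exact add_mem (hv d) (hw d)
  zero_mem' := by
    intro d
    have : (fun j => ((0 : Fin r → rees σ D) j).1.coeff d) =
        (0 : Fin r → MvPolynomial σ D) := by
      ext1 j
      simp
    rw [this]
    exact zero_mem _
  smul_mem' := by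
    intro c w hw d
    have : (fun j => ((c • w) j).1.coeff d) =
        ∑ x ∈ Finset.antidiagonal d, c.1.coeff x.1 • fun j => (w j).1.coeff x.2 := by
      ext1 j
      have : ((c • w) j).1 = c.1 * (w j).1 := rfl
      rw [this, Polynomial.coeff_mul, Finset.sum_apply]
      rfl
    simp only [Set.mem_ofPred_eq] at hw ⊢
    rw [this]
    exact Submodule.sum_mem _ fun x _ => Submodule.smul_mem _ _ (hw _)

theorem mem_reesMod {N : Submodule (MvPolynomial σ D) (Fin r → MvPolynomial σ D)}
    {w : Fin r → rees σ D} : w ∈ reesMod N ↔ ∀ d, (fun j => (w j).1.coeff d) ∈ N := Iff.rfl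

theorem finiteType_rees [Finite σ] : Algebra.FiniteType D (rees σ D) := by
  rw [← Subalgebra.fg_iff_finiteType, Subalgebra.fg_def]
  exact ⟨_, (Set.finite_range _).insert _, rees_eq_adjoin.symm⟩

variable {R : Type u} [CommRing R] {t : R} [Algebra R D]

theorem finiteType_quotient (I : Ideal R) (hD : Algebra.FiniteType R (D ⧸ I.map (algebraMap R D)))
    (C : Type u) [CommRing C] [Algebra R C] [Algebra D C] [IsScalarTower R D C]
    [Algebra.FiniteType D C] : Algebra.FiniteType R (C ⧸ I.map (algebraMap R C)) := by
  have h1 : (algebraMap R (D ⧸ I.map (algebraMap R D))).FiniteType := by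
    rw [RingHom.finiteType_algebraMap]; exact hD
  have hle : I.map (algebraMap R D) ≤ (I.map (algebraMap R C)).comap (algebraMap D C) := by
    rw [← Ideal.map_le_iff_le_comap, Ideal.map_map, ← IsScalarTower.algebraMap_eq]
  have h2 : (Ideal.quotientMap (I.map (algebraMap R C)) (algebraMap D C) hle).FiniteType := by
    apply RingHom.FiniteType.of_comp_finiteType (f := Ideal.Quotient.mk (I.map (algebraMap R D)))
    rw [Ideal.quotientMap_comp_mk]
    have h3 : (algebraMap D C).FiniteType := by
      rw [RingHom.finiteType_algebraMap]; infer_instance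
    exact (RingHom.FiniteType.of_surjective _ Ideal.Quotient.mk_surjective).comp h3
  have h4 := h2.comp h1
  rw [← RingHom.finiteType_algebraMap]
  convert h4 using 1
  ext x
  change Ideal.Quotient.mk _ (algebraMap R C x) =
    Ideal.quotientMap _ _ hle (Ideal.Quotient.mk _ (algebraMap R D x))
  rw [Ideal.quotientMap_mk, ← IsScalarTower.algebraMap_apply]

theorem degPart_fg (h : VData R t) (ht : ¬ IsUnit t) (I : Ideal R)
    (hI : I = Ideal.span {t})
    (hD : Algebra.FiniteType R (D ⧸ I.map (algebraMap R D)))
    [IsAdicComplete (I.map (algebraMap R D)) D] [Finite σ]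
    (N : Submodule (MvPolynomial σ D) (Fin r → MvPolynomial σ D))
    (hsat : ∀ x, algebraMap R D t • x ∈ N → x ∈ N) (d : ℕ) : (degPart N d).FG := by
  let F : Submodule D (Fin r → MvPolynomial σ D) :=
    Submodule.pi Set.univ (fun _ => MvPolynomial.restrictTotalDegree σ D d)
  have hF : F.FG := Submodule.fg_pi fun _ => Module.Finite.iff_fg.1 inferInstance
  have : Module.Finite D F := Module.Finite.iff_fg.2 hF
  have := isHausdorff_pi_mvPolynomial (ι := Fin r) (σ := σ) (I.map (algebraMap R D))
  have h1 : ((degPart N d).comap F.subtype).FG := by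
    apply fg_of_saturated h ht I hI hD
    rintro ⟨x, hx⟩ hx2
    refine ⟨hsat x ?_, hx⟩
    exact hx2.1
  have h2 := h1.map F.subtype
  rwa [Submodule.map_comap_subtype, inf_eq_right.2] at h2
  exact inf_le_right

theorem fg_of_saturated_mvPolynomial (h : VData R t) (ht : ¬ IsUnit t) (I : Ideal R)
    (hI : I = Ideal.span {t})
    (hD : Algebra.FiniteType R (D ⧸ I.map (algebraMap R D)))
    [IsAdicComplete (I.map (algebraMap R D)) D] [Finite σ]
    (N : Submodule (MvPolynomial σ D) (Fin r → MvPolynomial σ D))
    (hsat : ∀ x, algebraMap R D t • x ∈ N → x ∈ N) : N.FG := by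
  classical
  have hft : Algebra.FiniteType D (rees σ D) := finiteType_rees
  have hJ' : I.map (algebraMap R (rees σ D)) = Ideal.span {algebraMap R (rees σ D) t} := by
    rw [hI, Ideal.map_span, Set.image_singleton]
  obtain ⟨W', hW'fg, hW'le, hW⟩ := h.exists_fg_le_sup (D := rees σ D) ht I hI
    (finiteType_quotient I hD (rees σ D)) (E := Fin r → rees σ D) (reesMod N) (by
      intro w hw
      rw [mem_reesMod] at hw ⊢
      intro d
      apply hsat
      convert hw d using 1
      ext1 j
      have : ((algebraMap R (rees σ D) t • w) j).1 =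
        Polynomial.C (MvPolynomial.C (algebraMap R D t)) * (w j).1 := rfl
      rw [this, Polynomial.coeff_C_mul, ← MvPolynomial.smul_eq_C_mul]
      rfl)
  obtain ⟨S, hS⟩ := hW'fg
  let B : ℕ := S.sup fun w => Finset.univ.sup fun j => (w j).1.natDegree
  have hB : ∀ w ∈ S, ∀ d, B < d → ∀ j, (w j).1.coeff d = 0 := by
    intro w hw d hd j
    apply Polynomial.coeff_eq_zero_of_natDegree_lt
    refine lt_of_le_of_lt ?_ hd
    exact (Finset.le_sup (f := fun j => (w j).1.natDegree) (Finset.mem_univ j)).trans
      (Finset.le_sup (f := fun w => Finset.univ.sup fun j => (w j).1.natDegree) hw)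
  let N' : Submodule (MvPolynomial σ D) (Fin r → MvPolynomial σ D) :=
    Submodule.span _ (((S ×ˢ Finset.range (B + 1)).image
      fun x => (fun j => (x.1 j).1.coeff x.2 : Fin r → MvPolynomial σ D) : Finset _) : Set _)
  have hSW : ∀ w ∈ S, w ∈ reesMod N := fun w hw => hW'le (hS ▸ Submodule.subset_span hw)
  have hN'N : N' ≤ N := by
    rw [Submodule.span_le]
    intro x hx
    simp only [Finset.coe_image, Set.mem_image, Finset.mem_coe, Finset.mem_product] at hx
    obtain ⟨⟨w, d⟩, ⟨hw, hd⟩, rfl⟩ := hx
    exact mem_reesMod.1 (hSW w hw) d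
  have hle : W' ≤ reesMod N' := by
    rw [← hS, Submodule.span_le]
    intro w hw
    rw [SetLike.mem_coe, mem_reesMod]
    intro d
    rcases Nat.lt_or_ge B d with hd | hd
    · have : (fun j => (w j).1.coeff d) = (0 : Fin r → MvPolynomial σ D) := by
        ext1 j
        exact hB w hw d hd j
      rw [this]
      exact zero_mem _
    · apply Submodule.subset_span
      simp only [Finset.coe_image, Set.mem_image, Finset.mem_coe, Finset.mem_product]
      exact ⟨(w, d), ⟨hw, by simp; omega⟩, rfl⟩
  have key : ∀ d, degPart N d ≤ N'.restrictScalars D := by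
    intro d
    refine Submodule.le_of_le_smul_of_le_jacobson_bot (I := I.map (algebraMap R D))
      (degPart_fg h ht I hI hD N hsat d) (IsAdicComplete.le_jacobson_bot _) ?_
    intro x hx
    rw [mem_degPart] at hx
    have hw0 : (fun j => (⟨Polynomial.monomial d (x j), monomial_mem_rees (hx.2 j)⟩ :
        rees σ D)) ∈ reesMod N := by
      rw [mem_reesMod]
      intro e
      by_cases hde : d = e
      · subst hde
        convert hx.1 using 1
        ext1 j
        simp
      · have : (fun j => (Polynomial.monomial d (x j)).coeff e) =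
            (0 : Fin r → MvPolynomial σ D) := by
          ext1 j
          simp [Polynomial.coeff_monomial, hde]
        rw [this]
        exact zero_mem _
    obtain ⟨u, hu, v, hv, huv⟩ := Submodule.mem_sup.1 (hW hw0)
    rw [hJ', Submodule.ideal_span_singleton_smul] at hv
    obtain ⟨w, hw, rfl⟩ := (Submodule.mem_smul_pointwise_iff_exists _ _ _).1 hv
    have hx' : x = (fun j => (u j).1.coeff d) +
        algebraMap R D t • (fun j => (w j).1.coeff d) := by
      ext1 j
      have h5 := congrArg (fun y : rees σ D => y.1.coeff d) (congrFun huv j)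
      have h6 : ((u + algebraMap R (rees σ D) t • w) j).1 =
        (u j).1 + Polynomial.C (MvPolynomial.C (algebraMap R D t)) * (w j).1 := rfl
      simp only [h6] at h5
      rw [Polynomial.coeff_add, Polynomial.coeff_C_mul, ← MvPolynomial.smul_eq_C_mul,
        Polynomial.coeff_monomial, if_pos rfl] at h5
      exact h5.symm
    rw [hx']
    refine Submodule.add_mem_sup (mem_reesMod.1 (hle hu) d) ?_
    refine Submodule.smul_mem_smul (Ideal.mem_map_of_mem _ ?_) ?_
    · rw [hI]
      exact Ideal.mem_span_singleton_self t
    · rw [mem_degPart]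
      exact ⟨mem_reesMod.1 hw d, fun j => (w j).2 d⟩
  refine ⟨_, le_antisymm hN'N ?_⟩
  intro x hx
  exact key (Finset.univ.sup fun j => (x j).totalDegree)
    (mem_degPart.2 ⟨hx, fun j => Finset.le_sup (f := fun j => (x j).totalDegree) (Finset.mem_univ j)⟩)

end Poly

end K25.Complete
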