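import Groth.Prelude.Def_W4bk4boschfrg79
import Groth.Agent.AdicRing.K25.Complete
import Groth.Agent.Ega4A.CompleteNoeth
import Mathlib.RingTheory.AdicCompletion.LocalRing
import Mathlib.RingTheory.AdicCompletion.Completeness
import Mathlib.RingTheory.Filtration

/-!
Base rings of class (N) and (V): saturated submodules of finite modules over algebras of finite type
over topologically finite type algebras are finitely generated.
-/

set_option autoImplicit false

open scoped TensorProduct Pointwise

namespace K25.Base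

open K25.Special K25.Complete AdicRing

universe u v

section Compl

variable {B : Type*} [CommRing B] (J : Ideal B)

/-- The kernel of the evaluation of a completion at level `n`. -/
theorem ker_evalₐ (hJ : J.FG) (n : ℕ) :
    RingHom.ker (AdicCompletion.evalₐ J n) = (J ^ n).map (algebraMap B (AdicCompletion J B)) := by
  ext x
  have h0 : x ∈ (J ^ n).map (algebraMap B (AdicCompletion J B)) ↔
      x ∈ (J ^ n • ⊤ : Submodule B (AdicCompletion J B)) := by
    rw [Ideal.smul_top_eq_map]
    exact Iff.rfl
  rw [h0, AdicCompletion.pow_smul_top_eq_ker_eval hJ, RingHom.mem_ker, LinearMap.mem_ker]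
  have hle : J ^ n • (⊤ : Ideal B) ≤ J ^ n := by simp
  have hge : J ^ n ≤ J ^ n • (⊤ : Ideal B) := by simp
  constructor
  · intro h
    rw [← AdicCompletion.factor_evalₐ_eq_eval J x hge, h, map_zero]
  · intro h
    rw [← AdicCompletion.factor_eval_eq_evalₐ J x hle, h, map_zero]

theorem exists_sub_mem (hJ : J.FG) (n : ℕ) (x : AdicCompletion J B) :
    ∃ b : B, x - algebraMap B (AdicCompletion J B) b ∈
      (J ^ n).map (algebraMap B (AdicCompletion J B)) := by
  obtain ⟨b, hb⟩ := Ideal.Quotient.mk_surjective (AdicCompletion.evalₐ J n x)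
  refine ⟨b, ?_⟩
  rw [← ker_evalₐ J hJ, RingHom.mem_ker, map_sub, ← hb, sub_eq_zero]
  exact (AdicCompletion.evalₐ_of J n b).symm

theorem mem_pow_of_algebraMap_mem (hJ : J.FG) (n : ℕ) (b : B)
    (hb : algebraMap B (AdicCompletion J B) b ∈ (J ^ n).map (algebraMap B (AdicCompletion J B))) :
    b ∈ J ^ n := by
  rw [← ker_evalₐ J hJ, RingHom.mem_ker] at hb
  have h2 : AdicCompletion.evalₐ J n (algebraMap B (AdicCompletion J B) b) =
    Ideal.Quotient.mk (J ^ n) b := AdicCompletion.evalₐ_of J n b
  rw [h2] at hb
  exact Ideal.Quotient.eq_zero_iff_mem.1 hb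

end Compl

section Alg

variable {R : Type*} [CommRing R] (I : Ideal R) (B : Type*) [CommRing B] [Algebra R B]

theorem map_algebraMap_compl (K : Ideal R) (J : Ideal B) :
    K.map (algebraMap R (AdicCompletion J B)) =
      (K.map (algebraMap R B)).map (algebraMap B (AdicCompletion J B)) := by
  rw [Ideal.map_map]
  rfl

theorem algHom_mem_map {B₁ B₂ : Type*} [CommRing B₁] [Algebra R B₁] [CommRing B₂] [Algebra R B₂]
    (f : B₁ →ₐ[R] B₂) {x : B₁} (hx : x ∈ I.map (algebraMap R B₁)) :
    f x ∈ I.map (algebraMap R B₂) := by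
  have h1 := Ideal.mem_map_of_mem (f : B₁ →+* B₂) hx
  rw [Ideal.map_map] at h1
  have h2 : (f : B₁ →+* B₂).comp (algebraMap R B₁) = algebraMap R B₂ := f.comp_algebraMap
  rw [h2] at h1
  exact h1

/-- The completion of an `R`-algebra is complete. -/
theorem isAdicComplete_compl (hI : I.FG) :
    IsAdicComplete (I.map (algebraMap R (AdicCompletion (I.map (algebraMap R B)) B)))
      (AdicCompletion (I.map (algebraMap R B)) B) := by
  rw [map_algebraMap_compl]
  exact AdicCompletion.isAdicComplete_self _ (Ideal.FG.map hI _)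

theorem compl_exists_sub_mem (hI : I.FG) (n : ℕ) (x : AdicCompletion (I.map (algebraMap R B)) B) :
    ∃ b : B, x - algebraMap B (AdicCompletion (I.map (algebraMap R B)) B) b ∈
      (I ^ n).map (algebraMap R (AdicCompletion (I.map (algebraMap R B)) B)) := by
  rw [map_algebraMap_compl, Ideal.map_pow]
  exact exists_sub_mem _ (Ideal.FG.map hI _) n x

theorem compl_mem_of_algebraMap_mem (hI : I.FG) (n : ℕ) (b : B)
    (hb : algebraMap B (AdicCompletion (I.map (algebraMap R B)) B) b ∈
      (I ^ n).map (algebraMap R (AdicCompletion (I.map (algebraMap R B)) B))) :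
    b ∈ (I ^ n).map (algebraMap R B) := by
  rw [map_algebraMap_compl, Ideal.map_pow] at hb
  rw [Ideal.map_pow]
  exact mem_pow_of_algebraMap_mem _ (Ideal.FG.map hI _) n b hb

/-- If `B → B'` is an algebra map which is dense modulo `I`, and `B` is of finite type, then
`B'/IB'` is of finite type. -/
theorem finiteType_of_dense {B' : Type*} [CommRing B'] [Algebra R B'] (f : B →ₐ[R] B')
    [Algebra.FiniteType R B]
    (h : ∀ x : B', ∃ b, x - f b ∈ I.map (algebraMap R B')) :
    Algebra.FiniteType R (B' ⧸ I.map (algebraMap R B')) := by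
  refine Algebra.FiniteType.of_surjective ((Ideal.Quotient.mkₐ R (I.map (algebraMap R B'))).comp f) ?_
  intro x
  obtain ⟨x, rfl⟩ := Ideal.Quotient.mk_surjective x
  obtain ⟨b, hb⟩ := h x
  refine ⟨b, ?_⟩
  rw [AlgHom.comp_apply, Ideal.Quotient.mkₐ_eq_mk]
  exact ((Ideal.Quotient.mk_eq_mk_iff_sub_mem _ _).2 hb).symm

theorem finiteType_compl [Algebra.FiniteType R B] (hI : I.FG) :
    Algebra.FiniteType R (AdicCompletion (I.map (algebraMap R B)) B ⧸
      I.map (algebraMap R (AdicCompletion (I.map (algebraMap R B)) B))) := by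
  refine finiteType_of_dense I B (IsScalarTower.toAlgHom R B _) fun x => ?_
  obtain ⟨b, hb⟩ := compl_exists_sub_mem I B hI 1 x
  rw [pow_one] at hb
  exact ⟨b, hb⟩

end Alg

section IsBase

variable {R : Type u} [CommRing R] {I : Ideal R}

theorem fg_of_isBase (hR : IsBase R I) : I.FG := by
  obtain ⟨-, ⟨h1, -⟩ | ⟨-, -, -, t, -, rfl⟩⟩ := hR
  · exact IsNoetherian.noetherian I
  · exact ⟨{t}, by simp⟩

/-- In class (V) we have the data used in `K25.Special`. -/
theorem vData (hR : IsBase R I) (hN : ¬ IsNoetherianRing R) :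
    ∃ t : R, VData R t ∧ ¬ IsUnit t ∧ I = Ideal.span {t} := by
  obtain ⟨hc, ⟨h1, -⟩ | ⟨h1, h2, h3, t, ht, rfl⟩⟩ := hR
  · exact absurd h1 hN
  · refine ⟨t, ⟨h1, h2, h3, ht⟩, ?_, rfl⟩
    intro hu
    rw [Ideal.span_singleton_eq_top.2 hu] at hc
    have : Subsingleton R := IsAdicComplete.subsingleton (M := R) hc
    exact ht (Subsingleton.elim _ _)

theorem isAdicComplete_rPow (hI : I.FG) (n : ℕ) :
    IsAdicComplete (I.map (algebraMap R (RPow R I n))) (RPow R I n) :=
  isAdicComplete_compl I (MvPolynomial (Fin n) R) hI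

theorem finiteType_rPow (hI : I.FG) (n : ℕ) :
    Algebra.FiniteType R (RPow R I n ⧸ I.map (algebraMap R (RPow R I n))) :=
  finiteType_compl I (MvPolynomial (Fin n) R) hI

theorem isNoetherianRing_rPow [IsNoetherianRing R] (n : ℕ) : IsNoetherianRing (RPow R I n) :=
  Groth.Agent.Ega4A.CompleteNoeth.isNoetherianRing_adicCompletion _

/-- The kernel of a tft presentation is dealt with by this surjection. -/
theorem finiteType_of_topFiniteType (hI : I.FG) {A : Type v} [CommRing A] [Algebra R A]
    (hA : TopFiniteType R I A) : Algebra.FiniteType R (A ⧸ I.map (algebraMap R A)) := by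
  obtain ⟨n, φ, hφ⟩ := hA
  refine finiteType_of_dense I (MvPolynomial (Fin n) R)
    (φ.comp (IsScalarTower.toAlgHom R (MvPolynomial (Fin n) R) (RPow R I n))) fun x => ?_
  obtain ⟨y, rfl⟩ := hφ x
  obtain ⟨b, hb⟩ := compl_exists_sub_mem I (MvPolynomial (Fin n) R) hI 1 y
  rw [pow_one] at hb
  refine ⟨b, ?_⟩
  have h1 : φ (y - algebraMap (MvPolynomial (Fin n) R) (RPow R I n) b) ∈ I.map (algebraMap R A) :=
    algHom_mem_map I φ hb
  rw [map_sub] at h1
  exact h1

theorem isNoetherianRing_of_topFiniteType [IsNoetherianRing R] {A : Type v} [CommRing A]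
    [Algebra R A] (hA : TopFiniteType R I A) : IsNoetherianRing A := by
  obtain ⟨n, φ, hφ⟩ := hA
  have := isNoetherianRing_rPow (R := R) (I := I) n
  exact isNoetherianRing_of_surjective _ _ φ.toRingHom hφ

end IsBase

/-- Saturated submodules of finite modules are finitely generated. -/
def SatFG (R : Type u) [CommRing R] (I : Ideal R) (C : Type u) [CommRing C] [Algebra R C] : Prop :=
  ∀ (M : Type u) [AddCommGroup M] [Module C M] [Module.Finite C M] (N : Submodule C M),
    (∀ x, (∀ a ∈ I, algebraMap R C a • x ∈ N) → x ∈ N) → N.FG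

theorem satFG_of_isNoetherianRing (R : Type u) [CommRing R] (I : Ideal R) (C : Type u)
    [CommRing C] [Algebra R C] [IsNoetherianRing C] : SatFG R I C := by
  intro M _ _ _ N _
  exact IsNoetherian.noetherian N

/-- `SatFG` passes to quotients. -/
theorem SatFG.of_surjective {R : Type u} [CommRing R] {I : Ideal R} {C C' : Type u} [CommRing C]
    [Algebra R C] [CommRing C'] [Algebra R C'] (f : C →ₐ[R] C') (hf : Function.Surjective f)
    (h : SatFG R I C) : SatFG R I C' := by
  intro M _ _ _ N hN
  let _ : Algebra C C' := f.toRingHom.toAlgebra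
  let _ : Module C M := Module.compHom M f.toRingHom
  have _ : IsScalarTower C C' M := IsScalarTower.of_algebraMap_smul fun _ _ => rfl
  have _ : Module.Finite C C' := Module.Finite.of_surjective (Algebra.linearMap C C') hf
  have _ : Module.Finite C M := Module.Finite.trans C' M
  have h1 : (N.restrictScalars C).FG := by
    apply h M
    intro x hx
    apply hN
    intro a ha
    have := hx a ha
    rw [Submodule.restrictScalars_mem] at this
    convert this using 1
    change algebraMap R C' a • x = f (algebraMap R C a) • x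
    rw [f.commutes]
  exact Submodule.FG.of_restrictScalars (R := C) h1

/-- It suffices to treat free modules. -/
theorem satFG_of_free {R : Type u} [CommRing R] {I : Ideal R} {C : Type u} [CommRing C]
    [Algebra R C]
    (h : ∀ (r : ℕ) (N : Submodule C (Fin r → C)),
      (∀ x, (∀ a ∈ I, algebraMap R C a • x ∈ N) → x ∈ N) → N.FG) : SatFG R I C := by
  intro M _ _ _ N hN
  obtain ⟨r, f, hf⟩ := Module.Finite.exists_fin' C M
  have h1 : (N.comap f).FG := by
    apply h
    intro x hx
    apply hN
    intro a ha
    rw [← map_smul]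
    exact hx a ha
  have h2 := h1.map f
  rwa [Submodule.map_comap_eq_of_surjective hf] at h2

/-- Finite type algebras over topologically finite type algebras satisfy `SatFG`. -/
theorem satFG_of_isBase {R : Type u} [CommRing R] {I : Ideal R} (hR : IsBase R I)
    {A : Type u} [CommRing A] [Algebra R A] (hA : TopFiniteType R I A)
    (C : Type u) [CommRing C] [Algebra R C] [Algebra A C] [IsScalarTower R A C]
    [Algebra.FiniteType A C] : SatFG R I C := by
  by_cases hN : IsNoetherianRing R
  · have := isNoetherianRing_of_topFiniteType hA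
    have := Algebra.FiniteType.isNoetherianRing A C
    exact satFG_of_isNoetherianRing R I C
  have hI := fg_of_isBase hR
  obtain ⟨t, h, ht, hIt⟩ := vData hR hN
  obtain ⟨n, φ, hφ⟩ := hA
  obtain ⟨m, ψ, hψ⟩ := Algebra.FiniteType.iff_quotient_mvPolynomial''.1 ‹Algebra.FiniteType A C›
  let P := RPow R I n
  let f : MvPolynomial (Fin m) P →ₐ[R] C :=
    (ψ.restrictScalars R).comp (MvPolynomial.mapAlgHom φ)
  have hf : Function.Surjective f :=
    hψ.comp (MvPolynomial.map_surjective φ.toRingHom hφ)
  refine SatFG.of_surjective f hf (satFG_of_free fun r N hN => ?_)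
  have := isAdicComplete_rPow (R := R) hI n
  refine fg_of_saturated_mvPolynomial (D := P) h ht I hIt (finiteType_rPow hI n) N ?_
  intro x hx
  apply hN
  intro a ha
  rw [hIt, Ideal.mem_span_singleton] at ha
  obtain ⟨b, rfl⟩ := ha
  rw [mul_comm, map_mul, mul_smul]
  refine N.smul_mem _ ?_
  convert hx using 1
  ext1 j
  change algebraMap R (MvPolynomial (Fin m) P) t * x j = algebraMap R P t • x j
  rw [MvPolynomial.smul_eq_C_mul]
  rfl

end K25.Base
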