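import Groth.Agent.AdicRing.K25.ArtinRees
import Mathlib.RingTheory.AdicCompletion.AsTensorProduct
import Mathlib.RingTheory.Flat.Basic
import Mathlib.RingTheory.Flat.Tensor

/-!
Completion of finite modules over finite type algebras over topologically finite type algebras:
`Ĉ ⊗ M ≃ M̂` and flatness of `Ĉ`.
-/

set_option autoImplicit false

open scoped TensorProduct Pointwise

namespace K25.ComplExact

open K25.Special K25.Complete K25.Base K25.ArtinRees AdicRing

universe u

section General

variable {C : Type u} [CommRing C] (J : Ideal C) {M : Type u} [AddCommGroup M] [Module C M]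

theorem map_subtype_injective (N : Submodule C M) (n₀ : ℕ)
    (h : ∀ m, (J ^ (m + n₀) • (⊤ : Submodule C M)) ⊓ N ≤ J ^ m • N) :
    Function.Injective (AdicCompletion.map J N.subtype) := by
  rw [injective_iff_map_eq_zero]
  intro x hx
  obtain ⟨a, rfl⟩ := AdicCompletion.mk_surjective J N x
  ext m
  rw [AdicCompletion.val_zero, AdicCompletion.mk_apply_coe, Submodule.mkQ_apply]
  change Submodule.Quotient.mk (p := (J ^ m • ⊤ : Submodule C N)) (a m) = 0
  rw [← AdicCompletion.AdicCauchySequence.mk_eq_mk (Nat.le_add_right m n₀),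
    Submodule.Quotient.mk_eq_zero, Submodule.mem_smul_top_iff]
  apply h
  refine ⟨?_, (a (m + n₀)).2⟩
  have h1 := congrArg (fun y => y.val (m + n₀)) hx
  simp only [AdicCompletion.map_mk, AdicCompletion.mk_apply_coe, Submodule.mkQ_apply] at h1
  exact (Submodule.Quotient.mk_eq_zero _).1 h1

theorem exists_of_map_eq_zero {E : Type u} [AddCommGroup E] [Module C E] (f : E →ₗ[C] M)
    (hf : Function.Surjective f) (L : Submodule C E) (n₀ : ℕ)
    (h : ∀ m, (J ^ (m + n₀) • (⊤ : Submodule C E)) ⊓ LinearMap.ker f ≤ J ^ m • L)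
    (y : AdicCompletion J E) (hy : AdicCompletion.map J f y = 0) :
    ∃ k ∈ LinearMap.ker f, ∃ l : AdicCompletion J L,
      y = AdicCompletion.of J E k + AdicCompletion.map J L.subtype l := by
  obtain ⟨a, rfl⟩ := AdicCompletion.mk_surjective J E y
  have hmono : ∀ {m n : ℕ}, m ≤ n → (J ^ n • ⊤ : Submodule C E) ≤ J ^ m • ⊤ := fun h =>
    Submodule.smul_mono_left (Ideal.pow_le_pow_right h)
  have h1 : ∀ n, f (a n) ∈ (J ^ n • ⊤ : Submodule C M) := by
    intro n
    have h1 := congrArg (fun y => y.val n) hy
    simp only [AdicCompletion.map_mk, AdicCompletion.mk_apply_coe, Submodule.mkQ_apply] at h1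
    exact (Submodule.Quotient.mk_eq_zero _).1 h1
  choose e he hfe using fun n =>
    Groth.Agent.FormalA.AdicFin.exists_mem_smul_top_of_surjective f hf (J ^ n) (h1 n)
  let k : ℕ → E := fun n => a n - e n
  have hk : ∀ n, k n ∈ LinearMap.ker f := fun n => by
    rw [LinearMap.mem_ker, map_sub, hfe, sub_self]
  have hdiff : ∀ j, k (j + 1 + n₀) - k (j + n₀) ∈ J ^ j • L := by
    intro j
    apply h
    refine ⟨?_, sub_mem (hk _) (hk _)⟩
    have h2 : a (j + n₀ + 1) - a (j + n₀) ∈ (J ^ (j + n₀) • ⊤ : Submodule C E) := by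
      have := (a.2 (Nat.le_succ (j + n₀))).symm
      rwa [SModEq.sub_mem] at this
    have h3 : k (j + 1 + n₀) - k (j + n₀) =
        (a (j + n₀ + 1) - a (j + n₀)) - (e (j + n₀ + 1) - e (j + n₀)) := by
      have : j + 1 + n₀ = j + n₀ + 1 := by omega
      rw [this]
      simp only [k]
      abel
    rw [h3]
    exact sub_mem h2 (sub_mem (hmono (Nat.le_succ _) (he _)) (he _))
  have hlam : ∀ j, k (j + n₀) - k n₀ ∈ L := by
    intro j
    induction j with
    | zero =>
      have : 0 + n₀ = n₀ := by omega
      rw [this, sub_self]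
      exact zero_mem _
    | succ j ih =>
      have : k (j + 1 + n₀) - k n₀ = (k (j + 1 + n₀) - k (j + n₀)) + (k (j + n₀) - k n₀) := by abel
      rw [this]
      exact add_mem (Submodule.smul_le_right (hdiff j)) ih
  let lam : ℕ → L := fun j => ⟨k (j + n₀) - k n₀, hlam j⟩
  have hcau : ∀ n, lam n ≡ lam (n + 1) [SMOD (J ^ n • ⊤ : Submodule C L)] := by
    intro n
    apply SModEq.symm
    rw [SModEq.sub_mem, Submodule.mem_smul_top_iff]
    have : ((lam (n + 1) - lam n : L) : E) = k (n + 1 + n₀) - k (n + n₀) := by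
      simp only [lam, Submodule.coe_sub]
      abel
    rw [this]
    exact hdiff n
  refine ⟨k n₀, hk n₀, AdicCompletion.mk J L (AdicCompletion.AdicCauchySequence.mk J L lam hcau), ?_⟩
  ext m
  rw [AdicCompletion.map_mk, AdicCompletion.val_add_apply, AdicCompletion.mk_apply_coe,
    AdicCompletion.mk_apply_coe, AdicCompletion.of_apply, ← map_add, Submodule.mkQ_apply,
    Submodule.mkQ_apply]
  change Submodule.Quotient.mk (p := (J ^ m • ⊤ : Submodule C E)) (a m) =
    Submodule.Quotient.mk (k n₀ + (k (m + n₀) - k n₀))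
  rw [← AdicCompletion.AdicCauchySequence.mk_eq_mk (Nat.le_add_right m n₀), Submodule.Quotient.eq]
  have : a (m + n₀) - (k n₀ + (k (m + n₀) - k n₀)) = e (m + n₀) := by
    simp only [k]
    abel
  rw [this]
  exact hmono (Nat.le_add_right m n₀) (he _)

theorem ofTensorProduct_injective {r : ℕ} (f : (Fin r → C) →ₗ[C] M)
    (hf : Function.Surjective f) (L : Submodule C (Fin r → C)) (hLfg : L.FG)
    (hL : L ≤ LinearMap.ker f) (n₀ : ℕ)
    (h : ∀ m, (J ^ (m + n₀) • (⊤ : Submodule C (Fin r → C))) ⊓ LinearMap.ker f ≤ J ^ m • L) :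
    Function.Injective (AdicCompletion.ofTensorProduct J M) := by
  have hLfin : Module.Finite C L := Module.Finite.iff_fg.2 hLfg
  rw [injective_iff_map_eq_zero]
  intro x hx
  have hnat : ∀ y, AdicCompletion.map J f (AdicCompletion.ofTensorProduct J (Fin r → C) y) =
      AdicCompletion.ofTensorProduct J M
        (TensorProduct.AlgebraTensorModule.map LinearMap.id f y) := fun y =>
    LinearMap.congr_fun (AdicCompletion.ofTensorProduct_naturality J f) y
  have hnatL : ∀ z, AdicCompletion.map J L.subtype (AdicCompletion.ofTensorProduct J L z) =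
      AdicCompletion.ofTensorProduct J (Fin r → C)
        (TensorProduct.AlgebraTensorModule.map LinearMap.id L.subtype z) := fun z =>
    LinearMap.congr_fun (AdicCompletion.ofTensorProduct_naturality J L.subtype) z
  obtain ⟨y, rfl⟩ : ∃ y, TensorProduct.AlgebraTensorModule.map
      (LinearMap.id : AdicCompletion J C →ₗ[AdicCompletion J C] AdicCompletion J C) f y = x :=
    LinearMap.lTensor_surjective (AdicCompletion J C) hf x
  rw [← hnat] at hx
  obtain ⟨k, hk, l, hl⟩ := exists_of_map_eq_zero J f hf L n₀ h _ hx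
  obtain ⟨z, rfl⟩ := AdicCompletion.ofTensorProduct_surjective_of_finite J L l
  have hy : y = (1 : AdicCompletion J C) ⊗ₜ[C] k +
      TensorProduct.AlgebraTensorModule.map
        (LinearMap.id : AdicCompletion J C →ₗ[AdicCompletion J C] AdicCompletion J C)
        L.subtype z := by
    apply (AdicCompletion.ofTensorProduct_bijective_of_pi_of_fintype J (Fin r)).injective
    rw [hl, map_add, hnatL, AdicCompletion.ofTensorProduct_tmul, one_smul]
  rw [hy, map_add, TensorProduct.AlgebraTensorModule.map_tmul, LinearMap.id_apply,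
    LinearMap.mem_ker.1 hk, TensorProduct.tmul_zero, zero_add]
  have hcomp : ∀ z : AdicCompletion J C ⊗[C] L, TensorProduct.AlgebraTensorModule.map
      (LinearMap.id : AdicCompletion J C →ₗ[AdicCompletion J C] AdicCompletion J C) f
      (TensorProduct.AlgebraTensorModule.map
        (LinearMap.id : AdicCompletion J C →ₗ[AdicCompletion J C] AdicCompletion J C)
        L.subtype z) = 0 := by
    intro z
    induction z using TensorProduct.induction_on with
    | zero => simp
    | add a b ha hb => rw [map_add, map_add, ha, hb, add_zero]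
    | tmul c l =>
      rw [TensorProduct.AlgebraTensorModule.map_tmul, TensorProduct.AlgebraTensorModule.map_tmul]
      have : f (L.subtype l) = 0 := LinearMap.mem_ker.1 (hL l.2)
      rw [this, TensorProduct.tmul_zero]
  exact hcomp z

end General

section Base

variable {R : Type u} [CommRing R] {I : Ideal R}

theorem ofTensorProduct_bijective (hI : I.FG) (C : Type u) [CommRing C] [Algebra R C]
    (hC : SatFG R I C)
    (hAR : ∀ (M : Type u) [AddCommGroup M] [Module C M] [Module.Finite C M], ArtinRees I C M)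
    (M : Type u) [AddCommGroup M] [Module C M] [Module.Finite C M] :
    Function.Bijective (AdicCompletion.ofTensorProduct (I.map (algebraMap R C)) M) := by
  refine ⟨?_, AdicCompletion.ofTensorProduct_surjective_of_finite _ M⟩
  obtain ⟨r, f, hf⟩ := Module.Finite.exists_fin' C M
  have hKfg := hC (Fin r → C) (sat I (LinearMap.ker f)) (sat_saturated I hI (LinearMap.ker f))
  obtain ⟨n, hn⟩ := exists_pow_smul_sat_le I hKfg
  obtain ⟨m₀, hm₀⟩ := hAR (Fin r → C) (sat I (LinearMap.ker f))
  refine ofTensorProduct_injective (I.map (algebraMap R C)) f hf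
    (I.map (algebraMap R C) ^ n • sat I (LinearMap.ker f))
    (Submodule.FG.smul (Ideal.FG.pow (Ideal.FG.map hI _)) hKfg) ?_ (n + m₀) ?_
  · rw [← Ideal.map_pow, Submodule.smul_le]
    intro c hc x hx
    refine Submodule.span_induction (p := fun c _ => c • x ∈ LinearMap.ker f) ?_ ?_ ?_ ?_ hc
    · rintro _ ⟨a, ha, rfl⟩
      exact hn a ha x hx
    · rw [zero_smul]
      exact zero_mem _
    · intro y z _ _ hy hz
      rw [add_smul]
      exact add_mem hy hz
    · intro r y _ hy
      rw [smul_eq_mul, mul_smul]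
      exact (LinearMap.ker f).smul_mem _ hy
  · intro m
    rw [← mul_smul, ← pow_add, ← add_assoc]
    refine le_trans ?_ (hm₀ (m + n))
    exact inf_le_inf_left _ (le_sat I _)

theorem flat_compl (hI : I.FG) (C : Type u) [CommRing C] [Algebra R C]
    (hC : SatFG R I C)
    (hAR : ∀ (M : Type u) [AddCommGroup M] [Module C M] [Module.Finite C M], ArtinRees I C M) :
    Module.Flat C (AdicCompletion (I.map (algebraMap R C)) C) := by
  rw [Module.Flat.iff_lTensor_injective]
  intro 𝔞 h𝔞
  have hfin : Module.Finite C 𝔞 := Module.Finite.iff_fg.2 h𝔞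
  obtain ⟨n₀, hn₀⟩ := hAR C 𝔞
  have h1 := map_subtype_injective (I.map (algebraMap R C)) 𝔞 n₀ hn₀
  have h2 := (ofTensorProduct_bijective hI C hC hAR 𝔞).injective
  have h3 : ∀ z, AdicCompletion.map (I.map (algebraMap R C)) 𝔞.subtype
      (AdicCompletion.ofTensorProduct (I.map (algebraMap R C)) 𝔞 z) =
      AdicCompletion.ofTensorProduct (I.map (algebraMap R C)) C
        (𝔞.subtype.lTensor (AdicCompletion (I.map (algebraMap R C)) C) z) := fun z =>
    LinearMap.congr_fun (AdicCompletion.ofTensorProduct_naturality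
      (I.map (algebraMap R C)) 𝔞.subtype) z
  intro x y hxy
  apply h2
  apply h1
  rw [h3, h3, hxy]

end Base

end K25.ComplExact
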