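import Mathlib.RingTheory.Flat.Basic
import Mathlib.RingTheory.Flat.Stability
import Mathlib.RingTheory.Flat.Localization
import Mathlib.RingTheory.Flat.Tensor
import Mathlib.RingTheory.Localization.BaseChange
import Mathlib.RingTheory.TensorProduct.Quotient
import Mathlib.LinearAlgebra.TensorProduct.RightExactness
import Mathlib.RingTheory.Localization.Away.Basic
import Mathlib.Algebra.Module.Torsion.Basic

/-!
Flatness over `A` tested on `A/π` and `A[1/π]`.
-/

set_option autoImplicit false

open scoped TensorProduct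

namespace K25.FlatLocal

universe u v

/-- If the base change of `M` to `S` is flat over `S`, then tensoring over `A` with `M` preserves
injectivity of maps of `S`-modules. -/
theorem rTensor_injective_of_baseChange_flat {A S : Type*} [CommRing A] [CommRing S] [Algebra A S]
    (M : Type*) [AddCommGroup M] [Module A M] [Module.Flat S (S ⊗[A] M)]
    {X Y : Type*} [AddCommGroup X] [AddCommGroup Y] [Module S X] [Module S Y] [Module A X]
    [Module A Y] [IsScalarTower A S X] [IsScalarTower A S Y]
    (f : X →ₗ[S] Y) (hf : Function.Injective f) :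
    Function.Injective ((f.restrictScalars A).rTensor M) := by
  have h1 : Function.Injective (f.rTensor (S ⊗[A] M)) :=
    Module.Flat.rTensor_preserves_injective_linearMap f hf
  let eX := TensorProduct.AlgebraTensorModule.cancelBaseChange A S S X M
  let eY := TensorProduct.AlgebraTensorModule.cancelBaseChange A S S Y M
  have h2 : ∀ z, (f.restrictScalars A).rTensor M (eX z) = eY (f.rTensor (S ⊗[A] M) z) := by
    intro z
    induction z using TensorProduct.induction_on with
    | zero => simp
    | add a b ha hb => simp only [map_add, ha, hb]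
    | tmul x y =>
      induction y using TensorProduct.induction_on with
      | zero => simp
      | add a b ha hb => simp only [map_add, TensorProduct.tmul_add, ha, hb]
      | tmul s m =>
        simp [eX, eY, TensorProduct.AlgebraTensorModule.cancelBaseChange_tmul]
  intro a b hab
  obtain ⟨a, rfl⟩ := eX.surjective a
  obtain ⟨b, rfl⟩ := eX.surjective b
  rw [h2, h2] at hab
  exact congrArg _ (h1 (eY.injective hab))

/-- Injectivity modulo `J` is preserved by tensoring with `M` when `M/JM` is flat over `A/J`. -/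
theorem rTensor_mkQ_eq_zero {A : Type*} [CommRing A] (J : Ideal A)
    (M : Type*) [AddCommGroup M] [Module A M] [Module.Flat (A ⧸ J) ((A ⧸ J) ⊗[A] M)]
    {K F : Type*} [AddCommGroup K] [AddCommGroup F] [Module A K] [Module A F] (i : K →ₗ[A] F)
    (hi : ∀ a, i a ∈ (J • ⊤ : Submodule A F) → a ∈ (J • ⊤ : Submodule A K))
    (κ : K ⊗[A] M)
    (hκ : (Submodule.mkQ (J • ⊤ : Submodule A F)).rTensor M (i.rTensor M κ) = 0) :
    (Submodule.mkQ (J • ⊤ : Submodule A K)).rTensor M κ = 0 := by
  have hiJ : (J • ⊤ : Submodule A K) ≤ (J • ⊤ : Submodule A F).comap i := by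
    rw [← Submodule.map_le_iff_le_comap, Submodule.map_smul'']
    exact smul_mono_right _ le_top
  let iJ : (K ⧸ (J • ⊤ : Submodule A K)) →ₗ[A] (F ⧸ (J • ⊤ : Submodule A F)) :=
    Submodule.mapQ _ _ i hiJ
  have hiJinj : Function.Injective iJ := by
    rw [injective_iff_map_eq_zero]
    intro a ha
    obtain ⟨a, rfl⟩ := Submodule.Quotient.mk_surjective _ a
    change Submodule.Quotient.mk (i a) = 0 at ha
    rw [Submodule.Quotient.mk_eq_zero] at ha ⊢
    exact hi a ha
  -- `iJ` as an `A/J`-linear map
  let iJ' : (K ⧸ (J • ⊤ : Submodule A K)) →ₗ[A ⧸ J] (F ⧸ (J • ⊤ : Submodule A F)) :=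
    { toFun := iJ
      map_add' := iJ.map_add
      map_smul' := by
        intro c z
        obtain ⟨c, rfl⟩ := Ideal.Quotient.mk_surjective c
        exact iJ.map_smul c z }
  have hinj : Function.Injective ((iJ'.restrictScalars A).rTensor M) :=
    rTensor_injective_of_baseChange_flat (A := A) (S := A ⧸ J) M iJ' hiJinj
  have hiJ' : iJ'.restrictScalars A = iJ := rfl
  rw [hiJ'] at hinj
  apply hinj
  rw [map_zero, ← LinearMap.comp_apply, ← LinearMap.rTensor_comp]
  have h3 : iJ ∘ₗ (Submodule.mkQ (J • ⊤ : Submodule A K)) =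
      (Submodule.mkQ (J • ⊤ : Submodule A F)) ∘ₗ i := rfl
  rw [h3, LinearMap.rTensor_comp, LinearMap.comp_apply, hκ]

theorem exists_eq_smul {A : Type*} [CommRing A] (π : A)
    (M : Type*) [AddCommGroup M] [Module A M]
    {K : Type*} [AddCommGroup K] [Module A K] (κ : K ⊗[A] M)
    (hκ0 : (Submodule.mkQ (Ideal.span {π} • ⊤ : Submodule A K)).rTensor M κ = 0) :
    ∃ κ' : K ⊗[A] M, κ = π • κ' := by
  have hex2 : Function.Exact (LinearMap.lsmul A K π)
      (Submodule.mkQ (Ideal.span {π} • ⊤ : Submodule A K)) := by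
    intro z
    rw [Submodule.mkQ_apply, Submodule.Quotient.mk_eq_zero, Submodule.ideal_span_singleton_smul,
      Submodule.mem_smul_pointwise_iff_exists]
    constructor
    · rintro ⟨b, -, hb⟩
      exact ⟨b, hb⟩
    · rintro ⟨b, hb⟩
      exact ⟨b, trivial, hb⟩
  obtain ⟨κ', hκ'⟩ := ((rTensor_exact M hex2 (Submodule.mkQ_surjective _)) κ).1 hκ0
  refine ⟨κ', ?_⟩
  rw [← hκ']
  have : (LinearMap.lsmul A K π) = π • (LinearMap.id : K →ₗ[A] K) := rfl
  rw [this, LinearMap.rTensor_smul, LinearMap.rTensor_id]
  rfl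

theorem flat_tensor_torsionFree {A : Type*} [CommRing A] (π : A)
    (M : Type*) [AddCommGroup M] [Module A M]
    (hM : ∀ x : M, π • x = 0 → x = 0)
    (F : Type*) [AddCommGroup F] [Module A F] [Module.Flat A F]
    (z : F ⊗[A] M) (hz : π • z = 0) : z = 0 := by
  have h5 : Function.Injective ((LinearMap.lsmul A M π).lTensor F) :=
    Module.Flat.lTensor_preserves_injective_linearMap _ (by
      rw [injective_iff_map_eq_zero]
      exact hM)
  apply h5
  have : (LinearMap.lsmul A M π) = π • (LinearMap.id : M →ₗ[A] M) := rfl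
  rw [map_zero, this, LinearMap.lTensor_smul, LinearMap.lTensor_id]
  exact hz

/-- Auxiliary form of `torsionFree_tensor` with a chosen flat cover of `Q`. -/
theorem torsionFree_tensor_aux {A : Type*} [CommRing A] (π : A)
    (Q M : Type*) [AddCommGroup Q] [Module A Q] [AddCommGroup M] [Module A M]
    (hQ : ∀ x : Q, π • x = 0 → x = 0) (hM : ∀ x : M, π • x = 0 → x = 0)
    [Module.Flat (A ⧸ Ideal.span {π}) ((A ⧸ Ideal.span {π}) ⊗[A] M)]
    (F : Type*) [AddCommGroup F] [Module A F] [Module.Flat A F] (p : F →ₗ[A] Q)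
    (hp : Function.Surjective p)
    (K : Type*) [AddCommGroup K] [Module A K] (i : K →ₗ[A] F) (hex : Function.Exact i p)
    (hi : Function.Injective i)
    (x : Q ⊗[A] M) (hx : π • x = 0) : x = 0 := by
  have hexT : Function.Exact (i.rTensor M) (p.rTensor M) :=
    rTensor_exact M hex hp
  have hpT : Function.Surjective (p.rTensor M) := LinearMap.rTensor_surjective M hp
  obtain ⟨y, rfl⟩ := hpT x
  rw [← map_smul] at hx
  obtain ⟨κ, hκ⟩ := (hexT _).1 hx
  have hκ0 : (Submodule.mkQ (Ideal.span {π} • ⊤ : Submodule A K)).rTensor M κ = 0 := by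
    apply rTensor_mkQ_eq_zero (Ideal.span {π}) M i
    · intro a ha
      rw [Submodule.ideal_span_singleton_smul, Submodule.mem_smul_pointwise_iff_exists] at ha ⊢
      obtain ⟨b, -, hb⟩ := ha
      obtain ⟨c, rfl⟩ := (hex b).1 (by
        apply hQ
        rw [← map_smul, hb]
        exact (hex _).2 ⟨a, rfl⟩)
      refine ⟨c, trivial, hi ?_⟩
      rw [map_smul, hb]
    · rw [hκ, map_smul, ← LinearMap.smul_apply, ← LinearMap.rTensor_smul]
      have h4 : π • (Submodule.mkQ (Ideal.span {π} • ⊤ : Submodule A F)) = 0 := by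
        ext1 z
        rw [LinearMap.smul_apply, LinearMap.zero_apply, ← map_smul, Submodule.mkQ_apply,
          Submodule.Quotient.mk_eq_zero]
        exact Submodule.smul_mem_smul (Ideal.mem_span_singleton_self π) trivial
      rw [h4, LinearMap.rTensor_zero, LinearMap.zero_apply]
  -- hence κ is divisible by π
  obtain ⟨κ', hκ'⟩ := exists_eq_smul π M κ hκ0
  -- `F ⊗ M` is torsion free
  have h6 : y - i.rTensor M κ' = 0 := by
    apply flat_tensor_torsionFree π M hM F
    rw [smul_sub, ← hκ, hκ', map_smul, sub_self]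
  rw [sub_eq_zero] at h6
  rw [h6]
  exact (hexT _).2 ⟨κ', rfl⟩

/-- If `Q` and `M` are `π`-torsion free and `M/πM` is flat over `A/π`, then `Q ⊗ M` is `π`-torsion
free. -/
theorem torsionFree_tensor {A : Type*} [CommRing A] (π : A)
    (Q M : Type*) [AddCommGroup Q] [Module A Q] [AddCommGroup M] [Module A M]
    (hQ : ∀ x : Q, π • x = 0 → x = 0) (hM : ∀ x : M, π • x = 0 → x = 0)
    [Module.Flat (A ⧸ Ideal.span {π}) ((A ⧸ Ideal.span {π}) ⊗[A] M)]
    (x : Q ⊗[A] M) (hx : π • x = 0) : x = 0 :=
  torsionFree_tensor_aux π Q M hQ hM (Q →₀ A) (Finsupp.linearCombination A (id : Q → Q))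
    (Finsupp.linearCombination_surjective A Function.surjective_id)
    (LinearMap.ker (Finsupp.linearCombination A (id : Q → Q)))
    (LinearMap.ker (Finsupp.linearCombination A (id : Q → Q))).subtype
    (LinearMap.exact_subtype_ker_map _) Subtype.val_injective x hx

theorem flat_of_flat {A : Type u} [CommRing A] (π : A) (hπ : π ∈ nonZeroDivisors A)
    (M : Type v) [AddCommGroup M] [Module A M]
    (h1 : ∀ (x : M) (n : ℕ), π ^ n • x = 0 → x = 0)
    (h2 : Module.Flat (A ⧸ Ideal.span {π}) ((A ⧸ Ideal.span {π}) ⊗[A] M))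
    (h3 : Module.Flat (Localization.Away π) ((Localization.Away π) ⊗[A] M)) :
    Module.Flat A M := by
  rw [Module.Flat.iff_lTensor_injective']
  intro 𝔞
  rw [injective_iff_map_eq_zero]
  intro x hx
  -- torsion freeness
  have htf : ∀ (k : ℕ) (z : M ⊗[A] 𝔞), π ^ k • z = 0 → z = 0 := by
    intro k
    induction k with
    | zero => intro z hz; simpa using hz
    | succ k ih =>
      intro z hz
      apply ih
      apply (TensorProduct.comm A M 𝔞).injective
      rw [map_zero]
      refine torsionFree_tensor π 𝔞 M ?_ ?_ _ ?_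
      · intro w hw
        have : π * (w : A) = 0 := congrArg Subtype.val hw
        exact Subtype.ext ((mul_left_mem_nonZeroDivisors_eq_zero_iff hπ).1 this)
      · intro w hw
        exact h1 w 1 (by simpa using hw)
      · rw [← map_smul, ← mul_smul, ← pow_succ', hz, map_zero]
  -- localisation
  let L := Localization.Away π
  let g : M →ₗ[A] L ⊗[A] M := TensorProduct.mk A L M 1
  have hloc : IsLocalizedModule (Submonoid.powers π) g := inferInstance
  have hflat : Module.Flat A (L ⊗[A] M) := Module.Flat.trans A L (L ⊗[A] M)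
  have hinj : Function.Injective ((𝔞.subtype).lTensor (L ⊗[A] M)) :=
    Module.Flat.lTensor_preserves_injective_linearMap _ Subtype.val_injective
  have hlocT : IsLocalizedModule (Submonoid.powers π) (g.rTensor 𝔞) :=
    IsLocalizedModule.rTensor (R := A) (A := A) (N := 𝔞) (Submonoid.powers π) g
  have h0 : g.rTensor 𝔞 x = 0 := by
    apply hinj
    rw [map_zero, ← LinearMap.comp_apply, LinearMap.lTensor_comp_rTensor,
      ← LinearMap.rTensor_comp_lTensor, LinearMap.comp_apply, hx, map_zero]
  obtain ⟨⟨_, k, rfl⟩, hk⟩ := (IsLocalizedModule.eq_zero_iff (Submonoid.powers π) (g.rTensor 𝔞)).1 h0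
  exact htf k x hk

end K25.FlatLocal
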