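import Groth.Agent.AdicRing.K25.ArtinRees
import Groth.Agent.AdicRing.K25.FlatLocal
import Mathlib.RingTheory.Flat.Basic
import Mathlib.RingTheory.Flat.Tensor
import Mathlib.RingTheory.Flat.FaithfullyFlat.Basic

/-!
Flatness over `A` tested on the truncations `A/I^(n+1)A`.
-/

set_option autoImplicit false

open scoped TensorProduct Pointwise

namespace K25.FlatTrunc

open K25.Special K25.Complete K25.Base K25.ArtinRees AdicRing

universe u

section General

variable {A : Type*} [CommRing A] (𝔧 : Ideal A) (M : Type*) [AddCommGroup M] [Module A M]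

/-- An element of `K ⊗ M` dying in `F ⊗ M` comes from `(K ∩ 𝔧F) ⊗ M` when `M/𝔧M` is flat. -/
theorem mem_range_rTensor [Module.Flat (A ⧸ 𝔧) ((A ⧸ 𝔧) ⊗[A] M)]
    {K F : Type*} [AddCommGroup K] [AddCommGroup F] [Module A K] [Module A F] (i : K →ₗ[A] F)
    (κ : K ⊗[A] M) (hκ : i.rTensor M κ = 0) :
    κ ∈ LinearMap.range ((Submodule.comap i (𝔧 • ⊤ : Submodule A F)).subtype.rTensor M) := by
  -- the image of `K` in `F/𝔧F`
  let X : Submodule (A ⧸ 𝔧) (F ⧸ (𝔧 • ⊤ : Submodule A F)) :=
    { (LinearMap.range ((Submodule.mkQ (𝔧 • ⊤ : Submodule A F)) ∘ₗ i)) with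
      smul_mem' := by
        intro c x hx
        obtain ⟨c, rfl⟩ := Ideal.Quotient.mk_surjective c
        exact (LinearMap.range ((Submodule.mkQ (𝔧 • ⊤ : Submodule A F)) ∘ₗ i)).smul_mem c hx }
  let g : K →ₗ[A] X :=
    { toFun := fun k => ⟨Submodule.mkQ (𝔧 • ⊤ : Submodule A F) (i k), ⟨k, rfl⟩⟩
      map_add' := fun a b => Subtype.ext (by simp)
      map_smul' := fun a b => Subtype.ext (by
        change _ = a • (Submodule.mkQ (𝔧 • ⊤ : Submodule A F) (i b))
        simp) }
  have hg : Function.Surjective g := by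
    rintro ⟨_, k, rfl⟩
    exact ⟨k, rfl⟩
  have hex : Function.Exact (Submodule.comap i (𝔧 • ⊤ : Submodule A F)).subtype g := by
    intro k
    constructor
    · intro hk
      have h1 : Submodule.mkQ (𝔧 • ⊤ : Submodule A F) (i k) = 0 := congrArg Subtype.val hk
      rw [Submodule.mkQ_apply, Submodule.Quotient.mk_eq_zero] at h1
      exact ⟨⟨k, h1⟩, rfl⟩
    · rintro ⟨⟨k, hk⟩, rfl⟩
      apply Subtype.ext
      change Submodule.mkQ (𝔧 • ⊤ : Submodule A F) (i k) = 0
      rw [Submodule.mkQ_apply, Submodule.Quotient.mk_eq_zero]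
      exact hk
  have hinj : Function.Injective ((X.subtype.restrictScalars A).rTensor M) :=
    K25.FlatLocal.rTensor_injective_of_baseChange_flat (A := A) (S := A ⧸ 𝔧) M X.subtype
      Subtype.val_injective
  have h0 : g.rTensor M κ = 0 := by
    apply hinj
    rw [map_zero, ← LinearMap.comp_apply, ← LinearMap.rTensor_comp]
    have h3 : (X.subtype.restrictScalars A) ∘ₗ g =
        (Submodule.mkQ (𝔧 • ⊤ : Submodule A F)) ∘ₗ i := rfl
    rw [h3, LinearMap.rTensor_comp, LinearMap.comp_apply, hκ, map_zero]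
  exact ((rTensor_exact M hex hg) κ).1 h0

theorem range_rTensor_le {K : Type*} [AddCommGroup K] [Module A K] (N : Submodule A K)
    (hN : N ≤ 𝔧 • ⊤) : LinearMap.range (N.subtype.rTensor M) ≤ 𝔧 • (⊤ : Submodule A (K ⊗[A] M)) := by
  rintro _ ⟨z, rfl⟩
  induction z using TensorProduct.induction_on with
  | zero => rw [map_zero]; exact zero_mem _
  | add a b ha hb => rw [map_add]; exact add_mem ha hb
  | tmul n m =>
    rw [LinearMap.rTensor_tmul]
    refine Submodule.smul_induction_on (p := fun x => x ⊗ₜ[A] m ∈ 𝔧 • (⊤ : Submodule A (K ⊗[A] M)))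
      (hN n.2) ?_ ?_
    · intro a ha k _
      rw [← TensorProduct.smul_tmul']
      exact Submodule.smul_mem_smul ha trivial
    · intro a b ha hb
      rw [TensorProduct.add_tmul]
      exact add_mem ha hb

end General

section Finite

/-- `M ⊗_A 𝔞` is finite over `B` when `M` is finite over `B` and `𝔞` is finite over `A`. -/
theorem finite_tensor {A B : Type*} [CommRing A] [CommRing B] [Algebra A B]
    (M : Type*) [AddCommGroup M] [Module A M] [Module B M] [IsScalarTower A B M]
    [Module.Finite B M] (Q : Type*) [AddCommGroup Q] [Module A Q] [Module.Finite A Q] :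
    Module.Finite B (M ⊗[A] Q) := by
  obtain ⟨s, f, hf⟩ := Module.Finite.exists_fin' A Q
  have h1 : Module.Finite B (M ⊗[A] (Fin s → A)) :=
    Module.Finite.equiv (TensorProduct.piScalarRight A B M (Fin s)).symm
  exact Module.Finite.of_surjective
    (TensorProduct.AlgebraTensorModule.map (LinearMap.id : M →ₗ[B] M) f)
    (LinearMap.lTensor_surjective M hf)

end Finite

section Base

variable {R : Type u} [CommRing R] {I : Ideal R}

theorem flat_of_trunc (hR : IsBase R I)
    {A : Type u} [CommRing A] [Algebra R A] (hA : TopFiniteType R I A)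
    {B : Type u} [CommRing B] [Algebra R B] [Algebra A B] [IsScalarTower R A B]
    (hB : TopFiniteType R I B)
    (M : Type u) [AddCommGroup M] [Module B M] [Module A M] [IsScalarTower A B M]
    [Module.Finite B M]
    (h : ∀ n : ℕ, Module.Flat (trunc A I n) ((trunc A I n) ⊗[A] M)) : Module.Flat A M := by
  rw [Module.Flat.iff_lTensor_injective]
  intro 𝔞 h𝔞
  have hfin : Module.Finite A 𝔞 := Module.Finite.iff_fg.2 h𝔞
  have hfinB : Module.Finite B (M ⊗[A] 𝔞) := finite_tensor M 𝔞
  have hc := isAdicComplete_of_finite hR hB (M ⊗[A] 𝔞)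
  obtain ⟨n₀, hn₀⟩ := artinRees_of_isBase hR hA A A 𝔞
  rw [injective_iff_map_eq_zero]
  intro x hx
  refine IsHausdorff.haus (I := I.map (algebraMap R B)) inferInstance x fun m => ?_
  rw [SModEq.zero]
  -- pass to the left handed version
  have hx' : 𝔞.subtype.rTensor M (TensorProduct.comm A M 𝔞 x) = 0 := by
    rw [LinearMap.rTensor_comm, hx, map_zero]
  have := h (m + n₀)
  have h1 := mem_range_rTensor ((I ^ (m + n₀ + 1)).map (algebraMap R A)) M 𝔞.subtype _ hx'
  have h2 := range_rTensor_le (I.map (algebraMap R A) ^ m) M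
    (Submodule.comap 𝔞.subtype
      ((I ^ (m + n₀ + 1)).map (algebraMap R A) • ⊤ : Submodule A A)) (by
    intro a ha
    rw [Submodule.mem_smul_top_iff]
    apply hn₀
    refine ⟨?_, a.2⟩
    rw [← Ideal.map_pow]
    refine Submodule.smul_mono_left (Ideal.map_mono (Ideal.pow_le_pow_right ?_)) ha
    omega) h1
  have h3 : x ∈ (I.map (algebraMap R A) ^ m • (⊤ : Submodule A (M ⊗[A] 𝔞))) := by
    have h4 := Submodule.smul_top_le_comap_smul_top (I.map (algebraMap R A) ^ m)
      (TensorProduct.comm A M 𝔞).symm.toLinearMap h2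
    rw [Submodule.mem_comap] at h4
    have h5 : (TensorProduct.comm A M 𝔞).symm.toLinearMap (TensorProduct.comm A M 𝔞 x) = x :=
      (TensorProduct.comm A M 𝔞).symm_apply_apply x
    rwa [h5] at h4
  have h6 : (I.map (algebraMap R B) ^ m • (⊤ : Submodule B (M ⊗[A] 𝔞))).restrictScalars A =
      I.map (algebraMap R A) ^ m • (⊤ : Submodule A (M ⊗[A] 𝔞)) := by
    rw [IsScalarTower.algebraMap_eq R A B, ← Ideal.map_map, ← Ideal.map_pow,
      Ideal.smul_restrictScalars, Submodule.restrictScalars_top]
  rw [← h6] at h3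
  exact h3

/-- Faithful flatness, tested on the first truncation. -/
theorem faithfullyFlat_of_trunc (hR : IsBase R I)
    {A : Type u} [CommRing A] [Algebra R A] (hA : TopFiniteType R I A)
    {B : Type u} [CommRing B] [Algebra R B] [Algebra A B] [IsScalarTower R A B]
    (hB : TopFiniteType R I B)
    (M : Type u) [AddCommGroup M] [Module B M] [Module A M] [IsScalarTower A B M]
    [Module.Finite B M]
    (h : ∀ n : ℕ, Module.FaithfullyFlat (trunc A I n) ((trunc A I n) ⊗[A] M)) :
    Module.FaithfullyFlat A M := by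
  have hflat : Module.Flat A M := flat_of_trunc hR hA hB M fun n => (h n).toFlat
  refine ⟨fun m hm htop => ?_⟩
  have hc : IsAdicComplete (I.map (algebraMap R A)) A := isAdicComplete_of_finite hR hA A
  have hle : I.map (algebraMap R A) ≤ m :=
    (IsAdicComplete.le_jacobson_bot _).trans (sInf_le ⟨bot_le, hm⟩)
  have hle' : (I ^ (0 + 1)).map (algebraMap R A) ≤ m := by rwa [zero_add, pow_one]
  have hne : m.map (Ideal.Quotient.mk ((I ^ (0 + 1)).map (algebraMap R A))) ≠ ⊤ := by
    intro h1
    have h2 := congrArg (Ideal.comap (Ideal.Quotient.mk ((I ^ (0 + 1)).map (algebraMap R A)))) h1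
    rw [Ideal.comap_map_of_surjective _ Ideal.Quotient.mk_surjective, Ideal.comap_top,
      ← RingHom.ker_eq_comap_bot, Ideal.mk_ker, sup_eq_left.2 hle'] at h2
    exact hm.ne_top h2
  refine (Module.FaithfullyFlat.iff_flat_and_proper_ideal _ _).1 (h 0) |>.2 _ hne ?_
  rw [eq_top_iff]
  rintro x -
  induction x using TensorProduct.induction_on with
  | zero => exact zero_mem _
  | add a b ha hb => exact add_mem ha hb
  | tmul s x =>
    have hx : x ∈ (m • ⊤ : Submodule A M) := by
      rw [htop]
      exact Submodule.mem_top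
    refine Submodule.smul_induction_on (p := fun x => s ⊗ₜ[A] x ∈
      (m.map (Ideal.Quotient.mk ((I ^ (0 + 1)).map (algebraMap R A))) •
        (⊤ : Submodule (trunc A I 0) (trunc A I 0 ⊗[A] M)))) hx ?_ ?_
    · intro a ha y _
      have : s ⊗ₜ[A] (a • y) = (Ideal.Quotient.mk ((I ^ (0 + 1)).map (algebraMap R A)) a) •
          (s ⊗ₜ[A] y) := by
        rw [← TensorProduct.smul_tmul, TensorProduct.smul_tmul']
        rfl
      rw [this]
      exact Submodule.smul_mem_smul (Ideal.mem_map_of_mem _ ha) trivial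
    · intro a b ha hb
      rw [TensorProduct.tmul_add]
      exact add_mem ha hb

end Base

end K25.FlatTrunc
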