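import Groth.Agent.S1237
import Groth.Agent.Flat2C.FlatAtCriterion
import Mathlib.RingTheory.LocalProperties.FinitePresentation
import Mathlib.RingTheory.FiniteType
import Mathlib.RingTheory.KrullDimension.Basic
import Mathlib.RingTheory.Valuation.ValuationRing
import Mathlib.RingTheory.Flat.TorsionFree
import Mathlib.LinearAlgebra.TensorProduct.Quotient

/-!
Finite presentation of flat modules over rings with finitely many weakly associated primes, and the
reduction modulo `t` of saturated submodules over a valuation ring of height one.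
-/

set_option autoImplicit false

open scoped TensorProduct Pointwise

namespace K25.Special

universe u

/-- Finite presentation over a ring mapping onto `S` gives finite presentation over `S`. -/
lemma finitePresentation_of_surjective (P S M : Type*) [CommRing P] [CommRing S] [Algebra P S]
    [AddCommGroup M] [Module S M] [Module P M] [IsScalarTower P S M]
    (h : Function.Surjective (algebraMap P S)) [Module.FinitePresentation P M] :
    Module.FinitePresentation S M := by
  have hPS : Module.Finite P S := Module.Finite.of_surjective (Algebra.linearMap P S) h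
  have hM : Module.Finite S M := Module.Finite.of_restrictScalars_finite P S M
  obtain ⟨n, l, hl⟩ := Module.Finite.exists_fin' S M
  refine Module.finitePresentation_of_surjective l hl ?_
  refine Submodule.FG.of_restrictScalars (R := P) ?_
  have := Module.FinitePresentation.fg_ker (l.restrictScalars P) hl
  rwa [LinearMap.ker_restrictScalars] at this

/-- Raynaud–Gruson: over a ring with finitely many weakly associated primes, a finite module over a
finite type algebra which is flat over the base is finitely presented. -/
theorem finitePresentation_of_flat {R S M : Type u} [CommRing R]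
    (hR : (FlatCA.weakAss R R).Finite) [CommRing S] [Algebra R S] [Algebra.FiniteType R S]
    [AddCommGroup M] [Module S M] [Module R M] [IsScalarTower R S M] [Module.Finite S M]
    [Module.Flat R M] :
    Module.FinitePresentation S M := by
  obtain ⟨n, φ, hφ⟩ := Algebra.FiniteType.iff_quotient_mvPolynomial''.mp
    (inferInstance : Algebra.FiniteType R S)
  let _ : Algebra (MvPolynomial (Fin n) R) S := φ.toRingHom.toAlgebra
  have _ : IsScalarTower R (MvPolynomial (Fin n) R) S :=
    IsScalarTower.of_algebraMap_eq' φ.comp_algebraMap.symm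
  let _ : Module (MvPolynomial (Fin n) R) M := Module.compHom M φ.toRingHom
  have _ : IsScalarTower (MvPolynomial (Fin n) R) S M := ⟨fun p s m => by
    change (φ p * s) • m = φ p • s • m
    rw [mul_smul]⟩
  have _ : IsScalarTower R (MvPolynomial (Fin n) R) M := ⟨fun r p m => by
    change φ (r • p) • m = r • φ p • m
    rw [map_smul, smul_assoc]⟩
  have hfinS : Module.Finite (MvPolynomial (Fin n) R) S :=
    Module.Finite.of_surjective (Algebra.linearMap (MvPolynomial (Fin n) R) S) hφ
  have hfinM : Module.Finite (MvPolynomial (Fin n) R) M := Module.Finite.trans S M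
  have key := (Groth.Agent.S1237.result (R := R) (S := MvPolynomial (Fin n) R) hR M).2
  have hflat : ∀ (q : Ideal (MvPolynomial (Fin n) R)) [q.IsPrime], FlatCA.FlatAt R q M := by
    intro q _
    rw [Groth.Agent.Flat2C.FlatAtCriterion.flatAt_iff]
    intro I x hx
    refine ⟨1, fun h => (Ideal.IsPrime.ne_top ‹_›) ((Ideal.eq_top_iff_one q).mpr h), ?_⟩
    have h1 := (Module.Flat.iff_lTensor_injective' (R := R) (M := M)).mp inferInstance I
    rw [one_smul]
    exact h1 (by rw [hx, map_zero])
  have hfp : Module.FinitePresentation (MvPolynomial (Fin n) R) M := by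
    have hspan : Ideal.span {g : MvPolynomial (Fin n) R |
        Module.FinitePresentation (Localization.Away g) (LocalizedModule (Submonoid.powers g) M)} = ⊤ := by
      by_contra hne
      obtain ⟨q, hq, hle⟩ := Ideal.exists_le_maximal _ hne
      obtain ⟨g, hg, hfp, -⟩ := key q (hflat q)
      exact hg (hle (Ideal.subset_span hfp))
    exact Module.FinitePresentation.of_localizationSpan _ hspan fun g => g.2
  exact finitePresentation_of_surjective (MvPolynomial (Fin n) R) S M hφ

/-- Flatness of the reduction modulo an ideal, for an abstract reduction. -/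
theorem flat_of_ker_eq {R : Type*} [CommRing R] (I : Ideal R) {Q M : Type*} [AddCommGroup Q]
    [Module R Q] [Module.Flat R Q] [AddCommGroup M] [Module R M] [Module (R ⧸ I) M]
    [IsScalarTower R (R ⧸ I) M] (q : Q →ₗ[R] M) (hq : Function.Surjective q)
    (hker : LinearMap.ker q = I • ⊤) : Module.Flat (R ⧸ I) M := by
  let e : ((R ⧸ I) ⊗[R] Q) ≃ₗ[R] M :=
    ((TensorProduct.quotTensorEquivQuotSMul Q I).trans (Submodule.quotEquivOfEq _ _ hker.symm)).trans
      (q.quotKerEquivOfSurjective hq)
  exact Module.Flat.of_linearEquiv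
    (e.extendScalarsOfSurjective (S := R ⧸ I) Ideal.Quotient.mk_surjective).symm

/-- The class (V) data: a valuation ring of height one with a nonzero nonunit `t`. Completeness is
recorded separately. -/
structure VData (R : Type*) [CommRing R] (t : R) : Prop where
  isDomain : IsDomain R
  pre : PreValuationRing R
  dim : Ring.KrullDimLE 1 R
  ne_zero : t ≠ 0

section VData

variable {R : Type u} [CommRing R] {t : R}

theorem VData.isLocalRing (h : VData R t) : IsLocalRing R := by
  have := h.isDomain
  have := h.pre
  have : ValuationRing R := {}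
  infer_instance

/-- Every nonzero element divides a power of `t`, if `t` is not a unit (or not). -/
theorem VData.exists_dvd_pow (h : VData R t) (ht : ¬ IsUnit t) {c : R} (hc : c ≠ 0) :
    ∃ n : ℕ, c ∣ t ^ n := by
  have := h.isDomain
  have := h.dim
  have := h.isLocalRing
  have h1 : t ∈ (Ideal.span {c}).radical := by
    rw [Ideal.radical_eq_sInf, Submodule.mem_sInf]
    rintro P ⟨hP, hPp⟩
    have hPne : P ≠ ⊥ := by
      rintro rfl
      exact hc (hP (Ideal.mem_span_singleton_self c))
    have hmax := hPp.isMaximal_of_ne_bot hPne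
    rw [IsLocalRing.eq_maximalIdeal hmax]
    exact (IsLocalRing.mem_maximalIdeal t).2 ht
  obtain ⟨n, hn⟩ := h1
  exact ⟨n, Ideal.mem_span_singleton.1 hn⟩

/-- Torsion free modules are flat. -/
theorem VData.flat (h : VData R t) (ht : ¬ IsUnit t) (M : Type*) [AddCommGroup M] [Module R M]
    (hM : ∀ x : M, t • x = 0 → x = 0) : Module.Flat R M := by
  have := h.isDomain
  have := h.pre
  have : ValuationRing R := {}
  rw [Module.Flat.flat_iff_torsion_eq_bot_of_isBezout, eq_bot_iff]
  intro x hx
  rw [Submodule.mem_torsion_iff] at hx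
  obtain ⟨a, ha⟩ := hx
  rw [Submodule.mem_bot]
  obtain ⟨n, b, hb⟩ := h.exists_dvd_pow ht (nonZeroDivisors.coe_ne_zero a)
  have h1 : t ^ n • x = 0 := by
    rw [hb, mul_comm, mul_smul]
    have : (a : R) • x = 0 := ha
    rw [this, smul_zero]
  clear hb ha
  induction n with
  | zero => simpa using h1
  | succ n ih =>
    apply ih
    apply hM
    rwa [← mul_smul, ← pow_succ']

theorem VData.weakAss_finite (h : VData R t) :
    (FlatCA.weakAss (R ⧸ Ideal.span {t}) (R ⧸ Ideal.span {t})).Finite := by
  have := h.isDomain
  have := h.dim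
  have := h.isLocalRing
  refine Set.Subsingleton.finite ?_
  rintro p ⟨m, hm⟩ q ⟨m', hm'⟩
  have key : ∀ p : Ideal (R ⧸ Ideal.span {t}), p.IsPrime →
      p.comap (Ideal.Quotient.mk (Ideal.span {t})) = IsLocalRing.maximalIdeal R := by
    intro p hp
    have hP : (p.comap (Ideal.Quotient.mk (Ideal.span {t}))).IsPrime := inferInstance
    have hPne : p.comap (Ideal.Quotient.mk (Ideal.span {t})) ≠ ⊥ := by
      intro h0
      apply h.ne_zero
      have : t ∈ p.comap (Ideal.Quotient.mk (Ideal.span {t})) := by
        rw [Ideal.mem_comap, Ideal.Quotient.eq_zero_iff_mem.2 (Ideal.mem_span_singleton_self t)]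
        exact zero_mem _
      rwa [h0] at this
    exact IsLocalRing.eq_maximalIdeal (hP.isMaximal_of_ne_bot hPne)
  have h1 := key p hm.1.1
  have h2 := key q hm'.1.1
  exact Ideal.comap_injective_of_surjective _ Ideal.Quotient.mk_surjective (h1.trans h2.symm)

/-- The reduction modulo `t` of a finite `t`-torsion free module is finitely presented. -/
theorem VData.finitePresentation_mod (h : VData R t) (I : Ideal R) (hI : I = Ideal.span {t})
    {D : Type u} [CommRing D] [Algebra R D]
    (hD : Algebra.FiniteType R (D ⧸ I.map (algebraMap R D)))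
    {Q : Type u} [AddCommGroup Q] [Module D Q] [Module.Finite D Q] [Module R Q]
    [IsScalarTower R D Q] [Module.Flat R Q]
    {M : Type u} [AddCommGroup M] [Module D M] [Module (D ⧸ I.map (algebraMap R D)) M]
    [IsScalarTower D (D ⧸ I.map (algebraMap R D)) M]
    (q : Q →ₗ[D] M) (hq : Function.Surjective q)
    (hker : LinearMap.ker q = I.map (algebraMap R D) • ⊤) :
    Module.FinitePresentation D M := by
  let _ : Module (R ⧸ I) M :=
    Module.compHom _ (algebraMap (R ⧸ I) (D ⧸ I.map (algebraMap R D)))
  have _ : IsScalarTower (R ⧸ I) (D ⧸ I.map (algebraMap R D)) M :=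
    IsScalarTower.of_algebraMap_smul fun r x => rfl
  let _ : Module R M := Module.compHom _ (algebraMap R D)
  have _ : IsScalarTower R D M := IsScalarTower.of_algebraMap_smul fun r x => rfl
  have _ : IsScalarTower R (R ⧸ I) M := by
    refine IsScalarTower.of_algebraMap_smul fun r x => ?_
    change algebraMap (R ⧸ I) (D ⧸ I.map (algebraMap R D)) (algebraMap R (R ⧸ I) r) • x =
      algebraMap R D r • x
    rw [← algebraMap_smul (D ⧸ I.map (algebraMap R D)) (algebraMap R D r) x]
    rfl
  have hflat0 : Module.Flat (R ⧸ I) M := by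
    refine flat_of_ker_eq I (q.restrictScalars R) hq ?_
    rw [LinearMap.ker_restrictScalars, hker]
    exact Ideal.smul_restrictScalars I ⊤
  have hfin : Module.Finite (D ⧸ I.map (algebraMap R D)) M := by
    have : Module.Finite D M := Module.Finite.of_surjective q hq
    exact Module.Finite.of_restrictScalars_finite D (D ⧸ I.map (algebraMap R D)) M
  have hft : Algebra.FiniteType (R ⧸ I) (D ⧸ I.map (algebraMap R D)) :=
    Algebra.FiniteType.of_restrictScalars_finiteType R (R ⧸ I) (D ⧸ I.map (algebraMap R D))
  have hw : (FlatCA.weakAss (R ⧸ I) (R ⧸ I)).Finite := by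
    rw [hI]
    exact h.weakAss_finite
  have hfp : Module.FinitePresentation (D ⧸ I.map (algebraMap R D)) M :=
    finitePresentation_of_flat (R := R ⧸ I) (S := D ⧸ I.map (algebraMap R D)) (M := M) hw
  have hfpDJ : Module.FinitePresentation D (D ⧸ I.map (algebraMap R D)) := by
    refine Module.finitePresentation_of_surjective (Submodule.mkQ (I.map (algebraMap R D)))
      (Submodule.mkQ_surjective _) ?_
    rw [Submodule.ker_mkQ]
    exact Ideal.FG.map (by rw [hI]; exact ⟨{t}, by simp⟩) _
  exact Module.FinitePresentation.trans (R := D) (M := M) (D ⧸ I.map (algebraMap R D))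

/-- The reduction modulo `t` of a `t`-saturated submodule is finitely generated. -/
theorem VData.exists_fg_le_sup (h : VData R t) (ht : ¬ IsUnit t) (I : Ideal R)
    (hI : I = Ideal.span {t})
    {D : Type u} [CommRing D] [Algebra R D]
    (hD : Algebra.FiniteType R (D ⧸ I.map (algebraMap R D)))
    {E : Type u} [AddCommGroup E] [Module D E] [Module.Finite D E] (N : Submodule D E)
    (hsat : ∀ x, algebraMap R D t • x ∈ N → x ∈ N) :
    ∃ N' : Submodule D E, N'.FG ∧ N' ≤ N ∧ N ≤ N' ⊔ I.map (algebraMap R D) • N := by
  classical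
  have hJ' : I.map (algebraMap R D) = Ideal.span {algebraMap R D t} := by
    rw [hI, Ideal.map_span, Set.image_singleton]
  -- the quotient
  let _ : Module R (E ⧸ N) := Module.compHom _ (algebraMap R D)
  have _ : IsScalarTower R D (E ⧸ N) := IsScalarTower.of_algebraMap_smul fun r x => rfl
  have hflat : Module.Flat R (E ⧸ N) := by
    apply h.flat ht
    intro x hx
    obtain ⟨x, rfl⟩ := Submodule.Quotient.mk_surjective _ x
    have h1 : Submodule.Quotient.mk (p := N) (algebraMap R D t • x) = 0 := hx
    rw [Submodule.Quotient.mk_eq_zero] at h1 ⊢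
    exact hsat x h1
  -- its reduction
  have hfpM : Module.FinitePresentation D
      ((E ⧸ N) ⧸ (I.map (algebraMap R D) • ⊤ : Submodule D (E ⧸ N))) :=
    h.finitePresentation_mod I hI hD
      (Submodule.mkQ (I.map (algebraMap R D) • ⊤ : Submodule D (E ⧸ N)))
      (Submodule.mkQ_surjective _) (Submodule.ker_mkQ _)
  generalize hq : Submodule.mkQ (I.map (algebraMap R D) • ⊤ : Submodule D (E ⧸ N)) = q at *
  have hqs : Function.Surjective q := hq ▸ Submodule.mkQ_surjective _
  have hqk : LinearMap.ker q = I.map (algebraMap R D) • ⊤ := hq ▸ Submodule.ker_mkQ _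
  obtain ⟨s, hs⟩ := Module.FinitePresentation.fg_ker (q ∘ₗ N.mkQ)
    (hqs.comp (Submodule.mkQ_surjective _))
  have hmem : ∀ x : E, x ∈ LinearMap.ker (q ∘ₗ N.mkQ) ↔ ∃ n ∈ N, ∃ y, x = n + algebraMap R D t • y := by
    intro x
    rw [LinearMap.mem_ker, LinearMap.comp_apply, ← LinearMap.mem_ker, hqk, hJ',
      Submodule.ideal_span_singleton_smul, Submodule.mem_smul_pointwise_iff_exists]
    constructor
    · rintro ⟨y, -, hy⟩
      obtain ⟨y, rfl⟩ := Submodule.mkQ_surjective _ y
      rw [← map_smul, Submodule.mkQ_apply, Submodule.mkQ_apply, Submodule.Quotient.eq] at hy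
      refine ⟨x - algebraMap R D t • y, ?_, y, by abel⟩
      rw [← neg_mem_iff, neg_sub]
      exact hy
    · rintro ⟨n, hn, y, rfl⟩
      refine ⟨N.mkQ y, trivial, ?_⟩
      rw [map_add, map_smul, Submodule.mkQ_apply N n, (Submodule.Quotient.mk_eq_zero N).2 hn, zero_add]
  have hs' : ∀ x ∈ s, ∃ n ∈ N, ∃ y, x = n + algebraMap R D t • y := fun x hx =>
    (hmem x).1 (hs ▸ Submodule.subset_span hx)
  choose! n hn y hy using hs'
  have hle2 : Submodule.span D (s.image n : Finset E) ≤ N := by
    rw [Submodule.span_le]
    intro x hx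
    simp only [Finset.coe_image, Set.mem_image, Finset.mem_coe] at hx
    obtain ⟨x, hx, rfl⟩ := hx
    exact hn x hx
  refine ⟨Submodule.span D (s.image n : Finset E), ⟨s.image n, rfl⟩, hle2, ?_⟩
  have hle : LinearMap.ker (q ∘ₗ N.mkQ) ≤
      Submodule.span D (s.image n : Finset E) ⊔ algebraMap R D t • (⊤ : Submodule D E) := by
    rw [← hs, Submodule.span_le]
    intro x hx
    rw [SetLike.mem_coe, hy x hx]
    refine Submodule.add_mem_sup (Submodule.subset_span ?_) (Submodule.smul_mem_pointwise_smul _ _ _ trivial)
    simp only [Finset.coe_image]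
    exact Set.mem_image_of_mem _ hx
  intro x hx
  obtain ⟨a, ha, b, hb, rfl⟩ := Submodule.mem_sup.1 (hle ((hmem x).2 ⟨x, hx, 0, by simp⟩))
  obtain ⟨c, -, rfl⟩ := (Submodule.mem_smul_pointwise_iff_exists _ _ _).1 hb
  refine Submodule.add_mem_sup ha ?_
  rw [hJ', Submodule.ideal_span_singleton_smul]
  refine Submodule.smul_mem_pointwise_smul _ _ _ (hsat c ?_)
  have := sub_mem hx (hle2 ha)
  rwa [add_sub_cancel_left] at this

end VData

end K25.Special
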